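import Cfsg.Agent.Lib.BenderSuzuki.NoGalois.Setup
import Cfsg.Agent.Lib.Suzuki2.FieldModel

/-!
# §7 of Suzuki's theorem: `V` as a group of field automorphisms

The involutions of `G_a` with `1` form the additive group of a field with multiplicative group `K`;
`V` acts faithfully by automorphisms.
-/

set_option autoImplicit false
set_option linter.unusedSectionVars false
set_option linter.style.haveILetI false

namespace Cfsg.Agent.Lib.BenderSuzuki.NoGalois

open MulAction Cfsg.Agent.Lib.RankOne.Basic Cfsg.Agent.Lib.RankOne.Involution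

universe u w

variable {G : Type u} {Ω : Type w} [Group G] [MulAction G Ω] [Finite G] {a : Ω} {t : G}
  {Q K : Subgroup G} {s : G}

/-- The involutions fixing `a`, with `1`. -/
def zGrp (F : Frame G a t Q K s) : Subgroup G where
  carrier := {x | x • a = a ∧ x * x = 1}
  one_mem' := ⟨one_smul G a, one_mul 1⟩
  inv_mem' := fun {x} hx => by
    show x⁻¹ • a = a ∧ x⁻¹ * x⁻¹ = 1
    rw [inv_eq_self_of_sq hx.2]; exact hx
  mul_mem' := fun {x y} hx hy => by
    refine ⟨by rw [mul_smul, hy.1, hx.1], ?_⟩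
    by_cases hx1 : x = 1
    · subst hx1; rw [one_mul]; exact hy.2
    by_cases hy1 : y = 1
    · subst hy1; rw [mul_one]; exact hx.2
    haveI := F.hyp.faithful
    have hc := Cfsg.Agent.Lib.RankOne.Nilpotent.involutions_commute F.hyp.setup F.hyp.twoRank
      (s := x) (s' := y) ⟨hx.1, hx1, hx.2⟩ ⟨hy.1, hy1, hy.2⟩
    calc x * y * (x * y) = x * (y * x) * y := by group
      _ = x * x * (y * y) := by rw [← hc]; group
      _ = 1 := by rw [hx.2, hy.2, one_mul]

theorem mem_zGrp {F : Frame G a t Q K s} {x : G} : x ∈ zGrp F ↔ x • a = a ∧ x * x = 1 := Iff.rfl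

theorem card_fixed_zGrp (F : Frame G a t Q K s) (S : Subgroup G) :
    Nat.card {x : zGrp F // (x : G) ∈ S} = Nat.card ↥(invs G a ∩ (S : Set G)) + 1 := by
  classical
  rw [← Finite.card_option]
  symm
  refine Nat.card_eq_of_bijective (fun o => o.elim ⟨1, S.one_mem⟩ fun x =>
    ⟨⟨x.1, x.2.1.1, x.2.1.2.2⟩, x.2.2⟩) ⟨?_, ?_⟩
  · rintro (_ | x) (_ | y) e
    · rfl
    · exact absurd (congrArg (fun z : {x : zGrp F // (x : G) ∈ S} => ((z.1 : zGrp F) : G)) e).symm y.2.1.2.1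
    · exact absurd (congrArg (fun z : {x : zGrp F // (x : G) ∈ S} => ((z.1 : zGrp F) : G)) e) x.2.1.2.1
    · exact congrArg some (Subtype.ext
        (congrArg (fun z : {x : zGrp F // (x : G) ∈ S} => ((z.1 : zGrp F) : G)) e))
  · rintro ⟨⟨x, hxa, hx2⟩, hxS⟩
    by_cases hx1 : x = 1
    · subst hx1; exact ⟨none, rfl⟩
    · exact ⟨some ⟨x, ⟨hxa, hx1, hx2⟩, hxS⟩, rfl⟩

theorem galois (F : Frame G a t Q K s) {n : ℕ} (hn0 : n ≠ 0) (hn : qNum G a = 2 ^ n) {v : G}
    (hv : v ∈ vGrp a t) :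
    qNum G a = (Nat.card ↥(invs G a ∩ (Subgroup.centralizer {v} : Set G)) + 1) ^ orderOf v ∧
      ∀ d ∈ vGrp a t, (∀ x ∈ invs G a, v * x = x * v → d * x = x * d) → d ∈ Subgroup.zpowers v := by
  classical
  have hcard : Nat.card (zGrp F) = 2 ^ n := by
    rw [← hn, qNum, ← Nat.card_congr (Equiv.subtypeUnivEquiv fun x : zGrp F => Subgroup.mem_top (x : G)),
      card_fixed_zGrp F ⊤, Subgroup.coe_top, Set.inter_univ]
  let c : twoStab G a t →* MulAut (zGrp F) :=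
    MonoidHom.mk' (fun d =>
      { toFun := fun x => ⟨d * x * (d : G)⁻¹, by
          rw [mem_zGrp, mul_smul, mul_smul, inv_smul_eq_iff.2 d.2.1.symm, (mem_zGrp.1 x.2).1]
          refine ⟨d.2.1, ?_⟩
          calc (d : G) * x * (d : G)⁻¹ * (d * x * (d : G)⁻¹) = d * ((x : G) * x) * (d : G)⁻¹ := by group
            _ = 1 := by rw [(mem_zGrp.1 x.2).2, mul_one, mul_inv_cancel]⟩
        invFun := fun x => ⟨(d : G)⁻¹ * x * d, by
          rw [mem_zGrp, mul_smul, mul_smul, d.2.1, (mem_zGrp.1 x.2).1]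
          refine ⟨inv_smul_eq_iff.2 d.2.1.symm, ?_⟩
          calc (d : G)⁻¹ * x * d * ((d : G)⁻¹ * x * d) = (d : G)⁻¹ * ((x : G) * x) * d := by group
            _ = 1 := by rw [(mem_zGrp.1 x.2).2, mul_one, inv_mul_cancel]⟩
        left_inv := fun x => Subtype.ext (show (d : G)⁻¹ * (d * x * (d : G)⁻¹) * d = x by group)
        right_inv := fun x => Subtype.ext (show (d : G) * ((d : G)⁻¹ * x * d) * (d : G)⁻¹ = x by group)
        map_mul' := fun x y => Subtype.ext (show (d : G) * (x * y) * (d : G)⁻¹ =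
          d * x * (d : G)⁻¹ * (d * y * (d : G)⁻¹) by group) })
      fun d e => MulEquiv.ext fun x => Subtype.ext
        (show (d * e : G) * x * (d * e : G)⁻¹ = d * (e * x * (e : G)⁻¹) * (d : G)⁻¹ by group)
  have hc : ∀ (d : twoStab G a t) (x : zGrp F), ((c d x : zGrp F) : G) = d * x * (d : G)⁻¹ := fun _ _ => rfl
  let L := (K.subgroupOf (twoStab G a t)).map c
  have htrans : ∀ x y : zGrp F, x ≠ 1 → y ≠ 1 → ∃ k ∈ L, k x = y := fun x y hx hy => by
    obtain ⟨k, hk, hkx, -⟩ := F.exists_K_invol (x := (x : G))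
      ⟨(mem_zGrp.1 x.2).1, fun h => hx (Subtype.ext h), (mem_zGrp.1 x.2).2⟩
    obtain ⟨l, hl, hly, -⟩ := F.exists_K_invol (x := (y : G))
      ⟨(mem_zGrp.1 y.2).1, fun h => hy (Subtype.ext h), (mem_zGrp.1 y.2).2⟩
    refine ⟨c ⟨l * k⁻¹, F.K_le (K.mul_mem hl (K.inv_mem hk))⟩,
      Subgroup.mem_map.2 ⟨_, Subgroup.mem_subgroupOf.2 (K.mul_mem hl (K.inv_mem hk)), rfl⟩, Subtype.ext ?_⟩
    rw [hc, ← hkx, ← hly]
    show l * k⁻¹ * (k * s * k⁻¹) * (l * k⁻¹)⁻¹ = l * s * l⁻¹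
    group
  set s' : zGrp F := ⟨s, mem_zGrp.2 ⟨F.s_mem.1, F.s_mem.2.2⟩⟩ with hs'
  obtain ⟨ι, hι, hadd, hι1, hιs, hmul⟩ := Cfsg.Agent.Lib.Suzuki2.FieldModel.field_model (A := zGrp F) hn0 hcard
    (fun x => Subtype.ext (mem_zGrp.1 x.2).2) L
    (by
      rintro _ ⟨k, hk, rfl⟩ _ ⟨l, hl, rfl⟩
      rw [← map_mul, ← map_mul]
      exact congrArg c (Subtype.ext (F.K_comm hk hl)))
    htrans (a₀ := s') (fun h => F.s_mem.2.1 (congrArg Subtype.val h))
  let e := Equiv.ofBijective ι hι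
  let GF := GaloisField 2 n
  have hsmul : ∀ (k : G) (hk : k ∈ K) (x : zGrp F),
      ι (c ⟨k, F.K_le hk⟩ x) = ι (c ⟨k, F.K_le hk⟩ s') * ι x := fun k hk x =>
    hmul _ (Subgroup.mem_map.2 ⟨_, Subgroup.mem_subgroupOf.2 hk, rfl⟩) x
  have hcs : ∀ d : twoStab G a t, (d : G) ∈ vGrp a t → c d s' = s' := fun d hd => Subtype.ext (by
    rw [hc, F.s_comm hd, mul_inv_cancel_right])
  let f : ↥(vGrp a t) → GF → GF := fun d x => ι (c ⟨d, d.2.1⟩ (e.symm x))
  have hf : ∀ (d : ↥(vGrp a t)) (x : zGrp F), f d (ι x) = ι (c ⟨d, d.2.1⟩ x) := fun d x => by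
    show ι (c _ (e.symm (e x))) = _
    rw [Equiv.symm_apply_apply]
  have fadd : ∀ d x y, f d (x + y) = f d x + f d y := fun d x y => by
    obtain ⟨x, rfl⟩ := hι.2 x
    obtain ⟨y, rfl⟩ := hι.2 y
    rw [← hadd, hf, hf, hf, map_mul, hadd]
  have fmul : ∀ d x y, f d (x * y) = f d x * f d y := fun d x y => by
    obtain ⟨x, rfl⟩ := hι.2 x
    obtain ⟨y, rfl⟩ := hι.2 y
    by_cases hx : x = 1
    · subst hx
      rw [hι1, zero_mul, ← hι1, hf, map_one, hι1, zero_mul]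
    obtain ⟨k, hk, hkx, -⟩ := F.exists_K_invol (x := (x : G))
      ⟨(mem_zGrp.1 x.2).1, fun h => hx (Subtype.ext h), (mem_zGrp.1 x.2).2⟩
    obtain rfl : c ⟨k, F.K_le hk⟩ s' = x := Subtype.ext hkx
    have hk' := F.norm_K d d.2.1 k hk
    have hcomp : ∀ z : zGrp F, c ⟨d, d.2.1⟩ (c ⟨k, F.K_le hk⟩ z) =
        c ⟨(d : G) * k * (d : G)⁻¹, F.K_le hk'⟩ (c ⟨d, d.2.1⟩ z) := fun z => Subtype.ext (by
      simp only [hc]; group)
    rw [← hsmul k hk, hf, hf, hf, hcomp, hcomp, hcs ⟨d, d.2.1⟩ d.2, hsmul _ hk']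
  have fcomp : ∀ d d' x, f (d * d') x = f d (f d' x) := fun d d' x => by
    obtain ⟨x, rfl⟩ := hι.2 x
    rw [hf d' x, hf d, hf (d * d'), ← MulAut.mul_apply, ← map_mul]
    rfl
  have fone : ∀ x, f 1 x = x := fun x => by
    obtain ⟨x, rfl⟩ := hι.2 x
    rw [hf]
    exact congrArg ι (Subtype.ext (by rw [hc]; simp))
  let τ : ↥(vGrp a t) →* RingAut GF :=
    MonoidHom.mk' (fun d =>
      { toFun := f d, invFun := f d⁻¹
        left_inv := fun x => by rw [← fcomp, inv_mul_cancel, fone]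
        right_inv := fun x => by rw [← fcomp, mul_inv_cancel, fone]
        map_mul' := fmul d
        map_add' := fadd d }) fun d d' => RingEquiv.ext fun x => fcomp d d' x
  have hτ : ∀ d x, τ d x = f d x := fun _ _ => rfl
  have hfix : ∀ (d : ↥(vGrp a t)) (x : zGrp F), τ d (ι x) = ι x ↔ (d : G) * x = x * d := fun d x => by
    rw [hτ, hf]
    refine ⟨fun h => mul_inv_eq_iff_eq_mul.1 (congrArg Subtype.val (hι.1 h)), fun h => ?_⟩
    exact congrArg ι (Subtype.ext (mul_inv_eq_iff_eq_mul.2 h))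
  have hinj : Function.Injective τ := (injective_iff_map_eq_one τ).2 fun d hd => by
    refine Subtype.ext (Subgroup.mem_bot.1 (F.ker_bot ▸ ?_))
    refine ⟨d.2.1, Subgroup.mem_centralizer_iff.2 fun x hx => ?_⟩
    exact ((hfix d ⟨x, hx.1, hx.2.2⟩).1 (by rw [hd]; rfl)).symm
  set Γ := Subgroup.zpowers (τ ⟨v, hv⟩) with hΓ
  have hcardΓ : Nat.card Γ = orderOf v := by
    rw [hΓ, Nat.card_zpowers, orderOf_injective τ hinj, Subgroup.orderOf_mk]
  haveI : Finite GF := Finite.of_surjective ι hι.2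
  haveI : Finite (RingAut GF) :=
    Finite.of_injective (fun σ : RingAut GF => (σ : GF → GF)) DFunLike.coe_injective
  letI : Fintype Γ := Fintype.ofFinite _
  have hmemfix : ∀ x : zGrp F, ι x ∈ FixedPoints.subfield Γ GF ↔ v * (x : G) = (x : G) * v := fun x => by
    rw [← hfix ⟨v, hv⟩ x]
    refine ⟨fun h => h ⟨_, Subgroup.mem_zpowers _⟩, fun h g => ?_⟩
    have h1 : Γ ≤ MulAction.stabilizer (RingAut GF) (ι x) := by
      rw [hΓ, Subgroup.zpowers_le]; exact h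
    exact h1 g.2
  refine ⟨?_, fun d hd hdx => ?_⟩
  · have h1 : Nat.card (FixedPoints.subfield Γ GF) =
        Nat.card ↥(invs G a ∩ (Subgroup.centralizer {v} : Set G)) + 1 := by
      rw [← card_fixed_zGrp F]
      exact (Nat.card_congr (e.subtypeEquiv fun x =>
        (Subgroup.mem_centralizer_singleton_iff.trans eq_comm).trans (hmemfix x).symm)).symm
    rw [hn, ← hcard, Nat.card_congr e, ← h1, Module.natCard_eq_pow_finrank (K := FixedPoints.subfield Γ GF),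
      FixedPoints.finrank_eq_card Γ GF, ← Nat.card_eq_fintype_card, hcardΓ]
  · obtain ⟨g, hg⟩ := (FixedPoints.toAlgHom_bijective Γ GF).2
      { (τ ⟨d, hd⟩ : GF →+* GF) with
        commutes' := fun y => by
          obtain ⟨y, hy⟩ := y
          obtain ⟨x, rfl⟩ := hι.2 y
          show τ ⟨d, hd⟩ (ι x) = ι x
          rw [hfix]
          rcases eq_or_ne x 1 with rfl | hx
          · simp
          · exact hdx _ ⟨(mem_zGrp.1 x.2).1, fun h => hx (Subtype.ext h), (mem_zGrp.1 x.2).2⟩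
              ((hmemfix x).1 hy) }
    obtain ⟨j, hj⟩ := Subgroup.mem_zpowers_iff.1 g.2
    refine Subgroup.mem_zpowers_iff.2 ⟨j, ?_⟩
    have h2 : τ (⟨v, hv⟩ ^ j) = τ ⟨d, hd⟩ := by
      rw [map_zpow, hj]
      exact RingEquiv.ext fun x => DFunLike.congr_fun hg x
    exact congrArg Subtype.val (hinj h2)

end Cfsg.Agent.Lib.BenderSuzuki.NoGalois
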