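import Cfsg.Agent.Lib.BenderSuzuki.Interface
import Cfsg.Agent.Lib.BenderSuzuki.Order

/-!
# §7 of Suzuki's theorem: the layer `Q/Z(Q)` as a module for `D`
-/

set_option autoImplicit false
set_option linter.unusedSectionVars false
set_option linter.style.haveILetI false

namespace Cfsg.Agent.Lib.BenderSuzuki.NoGalois

open MulAction Cfsg.Agent.Lib.RankOne.Basic Cfsg.Agent.Lib.RankOne.Involution

universe u w

/-- `Q` modulo its involutions, with the action of the two-point stabiliser. -/
structure Layer (G : Type u) {Ω : Type w} [Group G] [MulAction G Ω] (a : Ω) (t : G) (Q : Subgroup G)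
    (W : Type u) [CommGroup W] where
  /-- the projection -/
  π : Q →* W
  /-- the action -/
  φ : twoStab G a t →* MulAut W
  surj : Function.Surjective π
  ker : ∀ x : Q, π x = 1 ↔ x * x = 1
  sq : ∀ w : W, w * w = 1
  equivariant : ∀ (d : twoStab G a t) (x y : Q), (d : G) * x * (d : G)⁻¹ = y → φ d (π x) = π y

variable {G : Type u} {Ω : Type w} [Group G] [MulAction G Ω] [Finite G] {a : Ω} {t : G}
  {Q : Subgroup G}

theorem exists_layer (h : Hyp G Ω a t Q) (hQ : IsPGroup 2 Q) (hna : ¬ IsMulCommutative Q) :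
    ∃ (W : Type u) (_ : CommGroup W) (_ : Finite W), Nonempty (Layer G a t Q W) ∧
      Nat.card Q = Nat.card W * qNum G a := by
  obtain ⟨hiff, hsq, hcomm, -⟩ := nonabelian_structure h hQ hna
  let Z := Subgroup.center Q
  have hmk : ∀ x : Q, (QuotientGroup.mk x : Q ⧸ Z) = 1 ↔ x * x = 1 := fun x => by
    rw [QuotientGroup.eq_one_iff, hiff]
  letI : CommGroup (Q ⧸ Z) :=
    { (inferInstance : Group (Q ⧸ Z)) with
      mul_comm := fun x y => by
        induction x using QuotientGroup.induction_on with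
        | H x =>
          induction y using QuotientGroup.induction_on with
          | H y =>
            rw [← QuotientGroup.mk_mul, ← QuotientGroup.mk_mul, QuotientGroup.eq]
            have := hcomm y x
            convert this using 1
            group }
  let cq : twoStab G a t →* MulAut Q :=
    MonoidHom.mk' (fun d =>
      { toFun := fun x => ⟨d * x * (d : G)⁻¹, twoStab_norm h.setup d.2 x.2⟩
        invFun := fun x => ⟨(d : G)⁻¹ * x * d, twoStab_norm' h.setup d.2 x.2⟩
        left_inv := fun x => Subtype.ext (show (d : G)⁻¹ * (d * x * (d : G)⁻¹) * d = x by group)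
        right_inv := fun x => Subtype.ext (show (d : G) * ((d : G)⁻¹ * x * d) * (d : G)⁻¹ = x by group)
        map_mul' := fun x y => Subtype.ext (show (d : G) * (x * y) * (d : G)⁻¹ =
          d * x * (d : G)⁻¹ * (d * y * (d : G)⁻¹) by group) })
      fun d e => MulEquiv.ext fun x => Subtype.ext
        (show (d * e : G) * x * (d * e : G)⁻¹ = d * (e * x * (e : G)⁻¹) * (d : G)⁻¹ by group)
  have hcq : ∀ d, Z.map (cq d : Q ≃* Q) = Z := fun d =>
    (Subgroup.characteristic_iff_map_eq.1 (Subgroup.centerCharacteristic (G := Q))) (cq d)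
  let act : twoStab G a t →* MulAut (Q ⧸ Z) :=
    MonoidHom.mk' (fun d => QuotientGroup.congr Z Z (cq d) (hcq d)) fun d e => by
      refine MulEquiv.ext fun x => ?_
      induction x using QuotientGroup.induction_on with
      | H x => exact congrArg QuotientGroup.mk (DFunLike.congr_fun (map_mul cq d e) x)
  refine ⟨Q ⧸ Z, inferInstance, inferInstance, ⟨{
    π := QuotientGroup.mk' Z
    φ := act
    surj := QuotientGroup.mk'_surjective Z
    ker := hmk
    sq := fun x => by
      induction x using QuotientGroup.induction_on with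
      | H x => rw [← QuotientGroup.mk_mul, QuotientGroup.eq_one_iff]; exact hsq x
    equivariant := fun d x y he => congrArg QuotientGroup.mk (Subtype.ext he : cq d x = y) }⟩, ?_⟩
  rw [Subgroup.card_eq_card_quotient_mul_card_subgroup Z, qNum_eq_card h]
  exact congrArg (_ * ·) (Nat.card_congr (Equiv.subtypeEquivRight fun x => (hiff x).symm))

section Tools

variable {A W : Type*} [Group A] [CommGroup W]

theorem hom_prod_eq_one (φ : A →* MulAut W) {Γ : Type*} [Group Γ] [Fintype Γ] (f : Γ →* A) (γ : Γ)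
    (hγ : ∀ w, φ (f γ) w = w → w = 1) (w : W) : ∏ g, φ (f g) w = 1 := by
  refine hγ _ ?_
  rw [map_prod]
  exact Fintype.prod_bijective (fun g => γ * g) (Equiv.mulLeft γ).bijective _ _
    fun g => by rw [map_mul, map_mul, MulAut.mul_apply]

/-- Orbit sums of a family of elements of order `p` with vanishing higher powers span `W`. -/
theorem span_bound [Finite W] (φ : A →* MulAut W) (hW : ∀ w : W, w * w = 1) {ι : Type*} [Fintype ι]
    (hι : Odd (Fintype.card ι)) {p : ℕ} (hp : 0 < p) (e : ι → A) (he : ∀ i, e i ^ p = 1)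
    (hvan : ∀ j, 0 < j → j < p → ∀ w, ∏ i, φ (e i ^ j) w = 1) :
    Nat.card W ≤ ∏ i, Nat.card {w // φ (e i) w = w} := by
  classical
  rw [← Nat.card_pi]
  refine Nat.card_le_card_of_surjective (fun f => ∏ i, (f i).1) fun w => ?_
  refine ⟨fun i => ⟨∏ j ∈ Finset.range p, φ (e i ^ j) w, ?_⟩, ?_⟩
  · obtain ⟨p', rfl⟩ := Nat.exists_eq_succ_of_ne_zero hp.ne'
    rw [map_prod]
    simp only [← MulAut.mul_apply, ← map_mul, ← pow_succ']
    rw [Finset.prod_range_succ, Finset.prod_range_succ' (fun j => φ (e i ^ j) w) p', he i, pow_zero]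
  · show ∏ i, ∏ j ∈ Finset.range p, φ (e i ^ j) w = w
    rw [Finset.prod_comm, Finset.prod_eq_single_of_mem 0 (Finset.mem_range.2 hp) fun j hj hj0 =>
      hvan j (Nat.pos_of_ne_zero hj0) (Finset.mem_range.1 hj) w]
    obtain ⟨m, hm⟩ := hι
    simp only [pow_zero, map_one, MulAut.one_apply, Finset.prod_const, Finset.card_univ]
    rw [hm, pow_succ, pow_mul, sq, hW, one_pow, one_mul]

end Tools

namespace Layer

variable {W : Type u} [CommGroup W] (L : Layer G a t Q W)

theorem invol_π {x : Q} (hx : x * x = 1) (y : Q) : L.π (y * x) = L.π y := by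
  rw [map_mul, (L.ker x).2 hx, mul_one]

/-- A fixed point in the layer lifts to a fixed point in `Q`. -/
theorem lift (h : Hyp G Ω a t Q) (d : twoStab G a t) {w : W} (hw : L.φ d w = w) :
    ∃ x : Q, L.π x = w ∧ (d : G) * x * (d : G)⁻¹ = x := by
  classical
  obtain ⟨x0, rfl⟩ := L.surj w
  haveI := h.faithful
  let Z : Subgroup Q := L.π.ker
  have hZ : ∀ z : Z, ∀ y : Q, (z : Q) * y = y * z := fun z y => by
    rcases (sq_one_iff h z.1.2).1 (congrArg Subtype.val ((L.ker z).1 z.2)) with hz | hz
    · rw [show (z : Q) = 1 from Subtype.ext hz, one_mul, mul_one]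
    · exact Subtype.ext ((Cfsg.Agent.Lib.RankOne.Nilpotent.involution_central h.setup h.twoRank hz).2 _ y.2)
  letI : CommGroup Z :=
    { (inferInstance : Group Z) with mul_comm := fun z z' => Subtype.ext (hZ z z') }
  let act : ℕ → Q → Q := fun j x =>
    ⟨((d ^ j : twoStab G a t) : G) * x * ((d ^ j : twoStab G a t) : G)⁻¹,
      twoStab_norm h.setup (d ^ j).2 x.2⟩
  have hact : ∀ j, L.φ (d ^ j) (L.π x0) = L.π x0 := fun j => by
    induction j with
    | zero => rw [pow_zero, map_one, MulAut.one_apply]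
    | succ j ih => rw [pow_succ, map_mul, MulAut.mul_apply, hw, ih]
  let z : ℕ → Z := fun j => ⟨x0⁻¹ * act j x0, by
    rw [MonoidHom.mem_ker, map_mul, map_inv, ← L.equivariant (d ^ j) x0 (act j x0) rfl, hact,
      inv_mul_cancel]⟩
  have hz0 : z 0 = 1 := Subtype.ext (Subtype.ext (by simp [z, act]))
  have ho : z (orderOf d) = 1 := Subtype.ext (Subtype.ext (by
    show (x0 : G)⁻¹ * (((d ^ orderOf d : twoStab G a t) : G) * x0 *
      ((d ^ orderOf d : twoStab G a t) : G)⁻¹) = 1
    rw [pow_orderOf_eq_one]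
    simp))
  let cz : Z →* Z :=
    { toFun := fun y => ⟨act 1 y.1, by
        rw [MonoidHom.mem_ker, ← L.equivariant (d ^ 1) y.1 (act 1 y.1) rfl, MonoidHom.mem_ker.1 y.2,
          map_one]⟩
      map_one' := Subtype.ext (Subtype.ext (by simp [act]))
      map_mul' := fun y y' => Subtype.ext (Subtype.ext (by
        simp only [act, pow_one, Subgroup.coe_mul]; group)) }
  have hcz : ∀ j, cz (z j) = (z 1)⁻¹ * z (j + 1) := fun j => Subtype.ext (Subtype.ext (by
    simp only [cz, z, act, MonoidHom.coe_mk, OneHom.coe_mk, pow_succ', pow_zero, mul_one, Subgroup.coe_mul,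
      Subgroup.coe_inv, SubgroupClass.coe_pow]
    group))
  set P := ∏ j ∈ Finset.range (orderOf d), z j with hP
  refine ⟨x0 * P.1, L.invol_π ((L.ker _).1 P.2) x0, ?_⟩
  have hshift : ∏ j ∈ Finset.range (orderOf d), z (j + 1) = P := by
    have h1 := Finset.prod_range_succ' z (orderOf d)
    rw [Finset.prod_range_succ, ho, hz0, mul_one, mul_one] at h1
    exact h1.symm
  have hz2 : z 1 * z 1 = 1 := Subtype.ext ((L.ker _).1 (z 1).2)
  have hodd : Odd (orderOf d) := h.setup.odd_card.of_dvd_nat (orderOf_dvd_natCard d)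
  have hP' : z 1 * cz P = P := by
    rw [hP, map_prod]
    simp only [hcz]
    rw [Finset.prod_mul_distrib, Finset.prod_const, Finset.card_range, hshift, ← mul_assoc]
    obtain ⟨m, hm⟩ := hodd
    have hz2' : z 1 ^ 2 = 1 := by rw [pow_two, hz2]
    rw [hm, inv_eq_of_mul_eq_one_left hz2, pow_succ, pow_mul, hz2', one_pow, one_mul, hz2, one_mul, ← hm, hP]
  have e := congrArg (fun y : Z => ((y.1 : Q) : G)) hP'
  simp only [z, cz, act, MonoidHom.coe_mk, OneHom.coe_mk, pow_one, Subgroup.coe_mul,
    Subgroup.coe_inv] at e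
  rw [Subgroup.coe_mul]
  conv_rhs => rw [← e]
  group

theorem card_fix (h : Hyp G Ω a t Q) (d : twoStab G a t) :
    Nat.card ↥(Subgroup.centralizer {(d : G)} ⊓ Q) =
      Nat.card {w // L.φ d w = w} * (Nat.card ↥(invs G a ∩ (Subgroup.centralizer {(d : G)} : Set G)) + 1) := by
  classical
  set C := Subgroup.centralizer {(d : G)} ⊓ Q with hC
  let f : C →* W := L.π.comp (Subgroup.inclusion inf_le_right)
  have hmem : ∀ x : G, x ∈ Subgroup.centralizer {(d : G)} ↔ (d : G) * x * (d : G)⁻¹ = x := fun x => by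
    rw [Subgroup.mem_centralizer_singleton_iff, mul_inv_eq_iff_eq_mul, eq_comm]
  rw [Subgroup.card_eq_card_quotient_mul_card_subgroup f.ker,
    Nat.card_congr (QuotientGroup.quotientKerEquivRange f).toEquiv]
  congr 1
  · refine Nat.card_congr (Equiv.subtypeEquivRight fun w => ⟨?_, fun hw => ?_⟩)
    · rintro ⟨x, rfl⟩
      exact L.equivariant d _ _ ((hmem x.1).1 x.2.1)
    · obtain ⟨x, hx, hdx⟩ := L.lift h d hw
      exact ⟨⟨x, (hmem _).2 hdx, x.2⟩, hx⟩
  · rw [← Finite.card_option]
    symm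
    refine Nat.card_eq_of_bijective (fun o => o.elim 1 fun x =>
      ⟨⟨x.1, x.2.2, mem_Q_of_invs h x.2.1⟩, (L.ker _).2 (Subtype.ext x.2.1.2.2)⟩) ⟨?_, ?_⟩
    · rintro (_ | x) (_ | y) e
      · rfl
      · exact absurd (congrArg (fun z : f.ker => ((z.1 : C) : G)) e).symm y.2.1.2.1
      · exact absurd (congrArg (fun z : f.ker => ((z.1 : C) : G)) e) x.2.1.2.1
      · exact congrArg some (Subtype.ext (congrArg (fun z : f.ker => ((z.1 : C) : G)) e))
    · rintro ⟨⟨x, hxC, hxQ⟩, hx⟩
      rcases (sq_one_iff h hxQ).1 (congrArg Subtype.val ((L.ker ⟨x, hxQ⟩).1 hx)) with rfl | hxi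
      · exact ⟨none, rfl⟩
      · exact ⟨some ⟨x, hxi, hxC⟩, rfl⟩

end Layer

end Cfsg.Agent.Lib.BenderSuzuki.NoGalois
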