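import Cfsg.Agent.Lib.BenderSuzuki.NoGalois.Setup
import Cfsg.Agent.Lib.BenderSuzuki.NoGalois.Galois
import Cfsg.Agent.Lib.BenderSuzuki.NoGalois.Layer
import Cfsg.Agent.Lib.BenderSuzuki.Sections.Main

/-!
# §7 of Suzuki's theorem: `|Q| = q³`, the fixed points of a field automorphism of prime order

`C_Q(v)` has order `q₀³`; so `q₀ = 2`, as otherwise the unitary section would give a further element
of `V` fixing `GF(q₀)`.
-/

set_option autoImplicit false
set_option linter.unusedSectionVars false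
set_option linter.style.haveILetI false

namespace Cfsg.Agent.Lib.BenderSuzuki.NoGalois

open MulAction Cfsg.Agent.Lib.RankOne.Basic Cfsg.Agent.Lib.RankOne.Involution

universe u w

variable {G : Type u} {Ω : Type w} [Group G] [MulAction G Ω] [Finite G] {a : Ω} {t : G}
  {Q K : Subgroup G} {s : G}

/-- `q₀`: one more than the number of involutions of `G_a` centralised by `v`. -/
noncomputable def qSub (G : Type u) {Ω : Type w} [Group G] [MulAction G Ω] (a : Ω) (v : G) : ℕ :=
  Nat.card ↥(invs G a ∩ (Subgroup.centralizer {v} : Set G)) + 1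

theorem two_le_qSub (F : Frame G a t Q K s) {v : G} (hv : v ∈ vGrp a t) : 2 ≤ qSub G a v := by
  haveI : Nonempty ↥(invs G a ∩ (Subgroup.centralizer {v} : Set G)) :=
    ⟨⟨s, F.s_mem, Subgroup.mem_centralizer_singleton_iff.2 (F.s_comm hv).symm⟩⟩
  have : 0 < Nat.card ↥(invs G a ∩ (Subgroup.centralizer {v} : Set G)) := Nat.card_pos
  show 2 ≤ _ + 1
  omega

theorem card_K_cent (F : Frame G a t Q K s) {v : G} (hv : v ∈ vGrp a t) :
    Nat.card ↥(K ⊓ Subgroup.centralizer {v}) + 1 = qSub G a v := by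
  refine congrArg (· + 1) (Nat.card_eq_of_bijective (fun k : ↥(K ⊓ Subgroup.centralizer {v}) =>
    (⟨k.1 * s * k.1⁻¹, inverted_conj_mem F.hyp.setup F.s_mem (F.K_le k.2.1).1,
      Subgroup.mem_centralizer_singleton_iff.2 (by
        have h1 := Subgroup.mem_centralizer_singleton_iff.1 k.2.2
        calc k.1 * s * k.1⁻¹ * v = k.1 * s * (v⁻¹ * k.1)⁻¹ := by group
          _ = k.1 * s * (k.1 * v⁻¹)⁻¹ := by
              rw [show v⁻¹ * k.1 = k.1 * v⁻¹ from
                inv_mul_eq_iff_eq_mul.2 (by rw [← mul_assoc, ← h1, mul_inv_cancel_right])]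
          _ = k.1 * (s * v) * k.1⁻¹ := by group
          _ = k.1 * v * (s * k.1⁻¹) := by rw [← F.s_comm hv]; group
          _ = v * (k.1 * s * k.1⁻¹) := by rw [h1]; group)⟩ :
      ↥(invs G a ∩ (Subgroup.centralizer {v} : Set G)))) ⟨fun k l h => Subtype.ext ?_, fun x => ?_⟩)
  · obtain ⟨m, -, -, hu⟩ := F.exists_K_invol (inverted_conj_mem F.hyp.setup F.s_mem (F.K_le k.2.1).1)
    rw [hu _ k.2.1 rfl, hu _ l.2.1 (congrArg Subtype.val h).symm]
  · obtain ⟨k, hk, hkx, hu⟩ := F.exists_K_invol x.2.1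
    have hvx := Subgroup.mem_centralizer_singleton_iff.1 x.2.2
    have h1 : v * k * v⁻¹ = k := hu _ (F.norm_K v hv.1 k hk) (by
      have hvs : v⁻¹ * s * v = s := by rw [mul_assoc, ← F.s_comm hv, inv_mul_cancel_left]
      calc v * k * v⁻¹ * s * (v * k * v⁻¹)⁻¹ = v * (k * (v⁻¹ * s * v) * k⁻¹) * v⁻¹ := by group
        _ = v * x.1 * v⁻¹ := by rw [hvs, hkx]
        _ = x.1 := by rw [← hvx, mul_inv_cancel_right])
    exact ⟨⟨k, hk, Subgroup.mem_centralizer_singleton_iff.2 (mul_inv_eq_iff_eq_mul.1 h1).symm⟩,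
      Subtype.ext hkx⟩

variable {W : Type u} [CommGroup W] [Finite W]

theorem layer_fpf (F : Frame G a t Q K s) (L : Layer G a t Q W) (k : twoStab G a t)
    (hk : (k : G) ∈ K) (hk1 : k ≠ 1) {w : W} (hw : L.φ k w = w) : w = 1 := by
  obtain ⟨x, rfl, hx⟩ := L.lift F.hyp k hw
  rw [show x = 1 from Subtype.ext (F.fpf hk (fun h => hk1 (Subtype.ext h)) x.2 hx), map_one]

theorem layer_conj (L : Layer G a t Q W) (k d : twoStab G a t) :
    Nat.card {w // L.φ (k * d * k⁻¹) w = w} = Nat.card {w // L.φ d w = w} := by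
  refine (Nat.card_congr ((L.φ k).toEquiv.subtypeEquiv fun w => ?_)).symm
  show L.φ d w = w ↔ L.φ (k * d * k⁻¹) (L.φ k w) = L.φ k w
  rw [← MulAut.mul_apply, ← map_mul, inv_mul_cancel_right, map_mul, MulAut.mul_apply]
  exact (L.φ k).injective.eq_iff.symm

theorem card_fix_dvd (L : Layer G a t Q W) (d : twoStab G a t) :
    Nat.card {w // L.φ d w = w} ∣ Nat.card W :=
  Subgroup.card_subgroup_dvd_card ((L.φ d).toMonoidHom.eqLocus (MonoidHom.id W))

/-- An element of prime order in `V` has a fixed point in the layer. -/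
theorem exists_fixed_layer (F : Frame G a t Q K s) (L : Layer G a t Q W) {v : G}
    (hv : v ∈ vGrp a t) {p : ℕ} (hp : p.Prime) (hvp : orderOf v = p) (hW : 1 < Nat.card W) :
    1 < Nat.card {w // L.φ ⟨v, hv.1⟩ w = w} := by
  classical
  set vD : twoStab G a t := ⟨v, hv.1⟩ with hvD
  by_contra hle
  push Not at hle
  haveI : Nonempty {w // L.φ vD w = w} := ⟨⟨1, map_one _⟩⟩
  haveI : Subsingleton {w // L.φ vD w = w} := Finite.card_le_one_iff_subsingleton.1 hle
  letI : Fintype K := Fintype.ofFinite _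
  let ik : K →* twoStab G a t := Subgroup.inclusion (fun x hx => F.K_le hx)
  have hone : ∀ k : K, Nat.card {w // L.φ (ik k * vD * (ik k)⁻¹) w = w} = 1 := fun k => by
    rw [layer_conj]; exact le_antisymm hle Nat.card_pos
  have hodd : Odd (Fintype.card K) := by
    rw [← Nat.card_eq_fintype_card]
    exact F.hyp.setup.odd_card.of_dvd_nat (Subgroup.card_dvd_of_le fun x hx => F.K_le hx)
  have h := span_bound L.φ L.sq hodd hp.pos (fun k : K => ik k * vD * (ik k)⁻¹) (fun k => by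
    rw [conj_pow, show vD ^ p = 1 from Subtype.ext (by rw [← hvp]; exact pow_orderOf_eq_one v),
      mul_one, mul_inv_cancel]) ?_
  · rw [Finset.prod_congr rfl fun k _ => hone k, Finset.prod_const_one] at h
    omega
  intro j hj0 hjp w
  simp only [conj_pow]
  have hvjV : v ^ j ∈ vGrp a t := (vGrp a t).pow_mem hv j
  have hvj1 : v ^ j ≠ 1 := fun h => by
    have := orderOf_dvd_of_pow_eq_one h
    rw [hvp] at this
    have := Nat.le_of_dvd hj0 this
    omega
  let vj : twoStab G a t := vD ^ j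
  have hu : ∀ k : K, ((ik k * vj * (ik k)⁻¹ * vj⁻¹ : twoStab G a t) : G) ∈ K := fun k => by
    show (k : G) * (v ^ j) * (k : G)⁻¹ * (v ^ j)⁻¹ ∈ K
    rw [show (k : G) * (v ^ j) * (k : G)⁻¹ * (v ^ j)⁻¹ = k * ((v ^ j) * (k : G)⁻¹ * (v ^ j)⁻¹) by group]
    exact K.mul_mem k.2 (F.norm_K _ hvjV.1 _ (K.inv_mem k.2))
  let f : K →* twoStab G a t := MonoidHom.mk' (fun k => ik k * vj * (ik k)⁻¹ * vj⁻¹) fun k l => by
    have hc : Commute (ik k) (ik l * vj * (ik l)⁻¹ * vj⁻¹) :=
      Subtype.ext (F.K_comm k.2 (hu l))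
    have hc' : Commute (ik k * vj * (ik k)⁻¹ * vj⁻¹) (ik l * vj * (ik l)⁻¹ * vj⁻¹) :=
      Subtype.ext (F.K_comm (hu k) (hu l))
    calc ik (k * l) * vj * (ik (k * l))⁻¹ * vj⁻¹
        = ik k * (ik l * vj * (ik l)⁻¹ * vj⁻¹) * (vj * (ik k)⁻¹ * vj⁻¹) := by
          rw [map_mul]; group
      _ = (ik l * vj * (ik l)⁻¹ * vj⁻¹) * (ik k * vj * (ik k)⁻¹ * vj⁻¹) := by
          rw [hc.eq]; group
      _ = _ := hc'.eq.symm
  obtain ⟨k₀, hk₀, hmove⟩ := F.moves hvjV hvj1
  have hf1 : f ⟨k₀, hk₀⟩ ≠ 1 := fun h => hmove (by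
    have h' : k₀ * v ^ j * k₀⁻¹ * (v ^ j)⁻¹ = 1 := congrArg Subtype.val h
    have e : k₀ * v ^ j = v ^ j * k₀ := mul_inv_eq_iff_eq_mul.1 (mul_inv_eq_one.1 h')
    rw [← e]
    group)
  have key := hom_prod_eq_one L.φ f ⟨k₀, hk₀⟩
    (fun w hw => layer_fpf F L _ (hu _) hf1 hw) (L.φ vj w)
  rw [← key]
  refine Finset.prod_congr rfl fun k _ => ?_
  rw [← MulAut.mul_apply, ← map_mul]
  simp [f, vj]

theorem modEq_fix (L : Layer G a t Q W) (d : twoStab G a t) {p : ℕ} (hp : p.Prime)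
    (hd : orderOf d = p) : Nat.card W ≡ Nat.card {w // L.φ d w = w} [MOD p] := by
  haveI := Fact.mk hp
  have hP : IsPGroup p (Subgroup.zpowers d) := IsPGroup.of_card (n := 1) (by rw [Nat.card_zpowers, hd, pow_one])
  letI act : MulAction (Subgroup.zpowers d) W :=
    MulAction.compHom W ((L.φ.comp (Subgroup.zpowers d).subtype))
  suffices e : Nat.card (MulAction.fixedPoints (Subgroup.zpowers d) W) = Nat.card {w // L.φ d w = w} from
    e ▸ hP.card_modEq_card_fixedPoints W
  refine Nat.card_congr (Equiv.subtypeEquivRight fun w => ⟨fun h => h ⟨d, Subgroup.mem_zpowers d⟩, fun h g => ?_⟩)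
  show L.φ (g : twoStab G a t) w = w
  have h1 : Subgroup.zpowers d ≤ (MulAction.stabilizer (MulAut W) w).comap L.φ := by
    rw [Subgroup.zpowers_le]; exact h
  exact h1 g.2

theorem pow_prime_modEq {p : ℕ} (hp : p.Prime) (x : ℕ) : x ^ p ≡ x [MOD p] := by
  haveI := Fact.mk hp
  rw [← ZMod.natCast_eq_natCast_iff, Nat.cast_pow, ZMod.pow_card]

/-- The fixed points in the layer do not have order `q₀`. -/
theorem fixed_layer_ne (F : Frame G a t Q K s) (L : Layer G a t Q W) {v : G}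
    (hv : v ∈ vGrp a t) {p : ℕ} (hp : p.Prime) (hvp : orderOf v = p) {m : ℕ}
    (hq0 : qSub G a v = 2 ^ m) (hm : 1 ≤ m) (hW : Nat.card W = (qSub G a v ^ p) ^ 2) :
    Nat.card {w // L.φ ⟨v, hv.1⟩ w = w} ≠ qSub G a v := by
  classical
  intro hC
  haveI := Fact.mk hp
  set q0 := qSub G a v with hq0def
  set vD : twoStab G a t := ⟨v, hv.1⟩ with hvD
  have hvD' : orderOf vD = p := by rw [← hvp, ← Subgroup.orderOf_coe]
  have hodd : Odd p := by
    rw [← hvD']
    exact F.hyp.setup.odd_card.of_dvd_nat (orderOf_dvd_natCard vD)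
  -- `p` divides `q₀ - 1`
  have hdvd : p ∣ q0 - 1 := by
    have h1 : q0 * 1 ≡ q0 * q0 [MOD p] := by
      have h2 : q0 ≡ (q0 ^ p) ^ 2 [MOD p] := by
        have := (modEq_fix L vD hp hvD').symm
        rwa [hC, hW] at this
      rw [mul_one, ← pow_two]
      exact h2.trans ((pow_prime_modEq hp q0).pow 2)
    have hcop : Nat.Coprime p q0 := by
      rw [hq0]
      exact Nat.Coprime.pow_right _ (Nat.coprime_two_right.2 hodd)
    exact (Nat.modEq_iff_dvd' (two_le_qSub F hv |>.trans' one_le_two)).1 (h1.cancel_left_of_coprime hcop)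
  rw [hq0def, ← card_K_cent F hv, Nat.add_sub_cancel] at hdvd
  obtain ⟨z, hz⟩ := exists_prime_orderOf_dvd_card' p hdvd
  set zD : twoStab G a t := ⟨z, F.K_le z.2.1⟩ with hzD
  have hzp : orderOf zD = p := by
    rw [← hz, ← Subgroup.orderOf_coe zD, ← Subgroup.orderOf_coe z]
  have hcomm : Commute vD zD :=
    Subtype.ext (Subgroup.mem_centralizer_singleton_iff.1 z.2.2).symm
  let Γ := Subgroup.zpowers zD
  letI : Fintype Γ := Fintype.ofFinite _
  have hΓK : ∀ y : Γ, ((y : twoStab G a t) : G) ∈ K := fun y => by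
    have h1 : Γ ≤ K.subgroupOf (twoStab G a t) := by
      rw [Subgroup.zpowers_le, Subgroup.mem_subgroupOf]; exact z.2.1
    exact h1 y.2
  have hΓc : ∀ y : Γ, Commute vD (y : twoStab G a t) := fun y => by
    obtain ⟨i, hi⟩ := Subgroup.mem_zpowers_iff.1 y.2
    rw [← hi]; exact hcomm.zpow_right i
  have hcardΓ : Fintype.card Γ = p := by rw [← Nat.card_eq_fintype_card, Nat.card_zpowers, hzp]
  have hbound := span_bound L.φ L.sq (hcardΓ ▸ hodd) hp.pos (fun y : Γ => vD * (y : twoStab G a t)) (fun y => by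
    have hy : (y : twoStab G a t) ^ p = 1 := by
      rw [← hcardΓ, ← Nat.card_eq_fintype_card]
      exact congrArg Subtype.val (pow_card_eq_one' (x := y))
    rw [(hΓc y).mul_pow, hy, mul_one, ← hvD', pow_orderOf_eq_one]) ?_
  · have hle : ∀ y : Γ, Nat.card {w // L.φ (vD * (y : twoStab G a t)) w = w} ≤ q0 := fun y => by
      rcases le_or_gt (Nat.card {w // L.φ (vD * (y : twoStab G a t)) w = w}) 1 with h | h
      · exact h.trans ((two_le_qSub F hv).trans' one_le_two)
      · haveI := Finite.one_lt_card_iff_nontrivial.1 h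
        obtain ⟨⟨w, hw⟩, hne⟩ := exists_ne (⟨1, map_one _⟩ :
          {w // L.φ (vD * (y : twoStab G a t)) w = w})
        obtain ⟨x, hxw, hx⟩ := L.lift F.hyp _ hw
        obtain ⟨k, hk, hkV⟩ := F.into_V (d := ((vD * (y : twoStab G a t) : twoStab G a t) : G))
          (vD * (y : twoStab G a t)).2 x.2
          (fun h1 => hne (Subtype.ext (show w = 1 by rw [← hxw, show x = 1 from Subtype.ext h1, map_one]))) hx
        have hvy : vD * (y : twoStab G a t) = (y : twoStab G a t) * vD := (hΓc y).eq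
        have he : (⟨k, F.K_le hk⟩ : twoStab G a t) * (vD * (y : twoStab G a t)) *
            (⟨k, F.K_le hk⟩ : twoStab G a t)⁻¹ = vD := by
          refine Subtype.ext (Eq.trans ?_ (F.conj_eq hv (hΓK y) hk ?_))
          · rw [hvy]; rfl
          · rw [hvy] at hkV; exact hkV
        rw [← layer_conj L ⟨k, F.K_le hk⟩, he, hC]
    have h3 : (q0 ^ p) ^ 2 ≤ q0 ^ p := by
      calc (q0 ^ p) ^ 2 = Nat.card W := hW.symm
        _ ≤ _ := hbound
        _ ≤ ∏ _y : Γ, q0 := Finset.prod_le_prod' fun y _ => hle y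
        _ = q0 ^ p := by rw [Finset.prod_const, Finset.card_univ, hcardΓ]
    have h4 : 2 ≤ q0 ^ p := (two_le_qSub F hv).trans (Nat.le_self_pow hp.ne_zero _)
    nlinarith
  intro j hj0 hjp w
  have hvj : ∀ y : Γ, L.φ ((vD * (y : twoStab G a t)) ^ j) w =
      L.φ ((y : twoStab G a t) ^ j) (L.φ (vD ^ j) w) := fun y => by
    rw [(hΓc y).mul_pow, ((hΓc y).pow_pow j j).eq, map_mul, MulAut.mul_apply]
  simp only [hvj]
  let f : Γ →* twoStab G a t := MonoidHom.mk' (fun y => (y : twoStab G a t) ^ j) fun y y' => by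
    obtain ⟨i, hi⟩ := Subgroup.mem_zpowers_iff.1 y.2
    obtain ⟨i', hi'⟩ := Subgroup.mem_zpowers_iff.1 y'.2
    exact (Commute.mul_pow (hi ▸ hi' ▸ (Commute.refl zD).zpow_zpow i i') j)
  refine hom_prod_eq_one L.φ f ⟨zD, Subgroup.mem_zpowers zD⟩ (fun w hw => ?_) _
  refine layer_fpf F L (zD ^ j) ?_ ?_ hw
  · exact K.pow_mem z.2.1 j
  · intro h
    have := orderOf_dvd_of_pow_eq_one h
    rw [hzp] at this
    have := Nat.le_of_dvd hj0 this
    omega

theorem qSub_pow_two (F : Frame G a t Q K s) {n : ℕ} (hn0 : n ≠ 0) (hn : qNum G a = 2 ^ n) {v : G}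
    (hv : v ∈ vGrp a t) : ∃ m, 1 ≤ m ∧ qSub G a v = 2 ^ m ∧ n = m * orderOf v := by
  have h := (galois F hn0 hn hv).1
  rw [hn] at h
  have ho : orderOf v ≠ 0 := (orderOf_pos v).ne'
  have hd : qSub G a v ∣ 2 ^ n := by
    rw [h]; exact dvd_pow_self _ ho
  obtain ⟨m, -, hm⟩ := (Nat.dvd_prime_pow Nat.prime_two).1 hd
  refine ⟨m, ?_, hm, ?_⟩
  · by_contra h'
    obtain rfl : m = 0 := by omega
    have := two_le_qSub F hv
    rw [hm] at this
    norm_num at this
  · have h' : 2 ^ n = (2 ^ m) ^ orderOf v := hm ▸ h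
    rw [← pow_mul] at h'
    exact Nat.pow_right_injective le_rfl h'

theorem centralizer_card (F : Frame G a t Q K s) (L : Layer G a t Q W) {v : G} (hv : v ∈ vGrp a t) :
    Nat.card ↥(Subgroup.centralizer {v} ⊓ Q) =
      Nat.card {w // L.φ ⟨v, hv.1⟩ w = w} * qSub G a v :=
  L.card_fix F.hyp ⟨v, hv.1⟩

/-- With `|Q| = q³` the subfield `GF(q₀)` is `GF(2)`. -/
theorem qSub_eq_two (hM : MinHyp G Ω a t Q) (F : Frame G a t Q K s) (L : Layer G a t Q W)
    {n : ℕ} (hn0 : n ≠ 0) (hn : qNum G a = 2 ^ n) (hW : Nat.card W = qNum G a ^ 2) {v : G}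
    (hv : v ∈ vGrp a t) {p : ℕ} (hp : p.Prime) (hvp : orderOf v = p) : qSub G a v = 2 := by
  by_contra hne
  have h2 := two_le_qSub F hv
  obtain ⟨m, hm, hq0, hnm⟩ := qSub_pow_two F hn0 hn hv
  have hv1 : v ≠ 1 := fun h => by rw [h, orderOf_one] at hvp; exact hp.one_lt.ne hvp
  have hvt : v * t = t * v := Subgroup.mem_centralizer_singleton_iff.1 hv.2
  have hW' : Nat.card W = (qSub G a v ^ p) ^ 2 := by
    rw [hW, ← hvp]; exact congrArg (· ^ 2) (galois F hn0 hn hv).1
  have hxy : ∃ x y, x ∈ invs G a ∧ y ∈ invs G a ∧ x ≠ y ∧ v * x = x * v ∧ v * y = y * v := by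
    have h1 : 1 < (invs G a ∩ (Subgroup.centralizer {v} : Set G)).ncard := by
      rw [← Nat.card_coe_set_eq]
      have : 3 ≤ qSub G a v := by omega
      unfold qSub at this
      omega
    obtain ⟨x, hx, y, hy, hne'⟩ := (Set.one_lt_ncard (Set.toFinite _)).1 h1
    exact ⟨x, y, hx.1, hy.1, hne', (Subgroup.mem_centralizer_singleton_iff.1 hx.2).symm,
      (Subgroup.mem_centralizer_singleton_iff.1 hy.2).symm⟩
  obtain ⟨-, e, he, hcard⟩ := Sections.sections_aux hM hv.1 hv1 hxy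
  have hC := centralizer_card F L hv
  change Nat.card ↥(Subgroup.centralizer {v} ⊓ Q) = qSub G a v ^ e at hcard
  rw [hcard] at hC
  have hpos : 0 < qSub G a v := by omega
  have h1 : 1 < Nat.card {w // L.φ ⟨v, hv.1⟩ w = w} := exists_fixed_layer F L hv hp hvp (by
    rw [hW, hn, ← pow_mul]
    exact Nat.one_lt_two_pow (by omega))
  rcases he with rfl | rfl | rfl
  · rw [pow_one] at hC
    have : 1 * qSub G a v < Nat.card {w // L.φ ⟨v, hv.1⟩ w = w} * qSub G a v :=
      Nat.mul_lt_mul_of_pos_right h1 hpos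
    omega
  · exact fixed_layer_ne F L hv hp hvp hq0 hm hW'
      (Nat.eq_of_mul_eq_mul_right hpos (hC.symm.trans (by ring)))
  · obtain ⟨d, hd, -, hdx, ω, hvω, hdω⟩ :=
      Sections.sectionsUnitary G Ω a t Q hM v hv.1 hv1 hvt hxy hcard
    obtain ⟨i, rfl⟩ := Subgroup.mem_zpowers_iff.1 ((galois F hn0 hn hv).2 d hd hdx)
    refine hdω ?_
    have h3 : Subgroup.zpowers v ≤ stabilizer G ω := by rw [Subgroup.zpowers_le]; exact hvω
    exact h3 (Subgroup.zpow_mem_zpowers v i)

/-- For `q = 8`, `|C_Q(v)| = 8`. -/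
theorem centralizer_card_eight (F : Frame G a t Q K s) (L : Layer G a t Q W) (hn : qNum G a = 8)
    (hW : Nat.card W = 64) {v : G} (hv : v ∈ vGrp a t) (hvp : orderOf v = 3) :
    Nat.card ↥(Subgroup.centralizer {v} ⊓ Q) = 8 := by
  classical
  set vD : twoStab G a t := ⟨v, hv.1⟩ with hvD
  have hq0 : qSub G a v = 2 := by
    obtain ⟨m, -, hm', hnm⟩ := qSub_pow_two F (n := 3) (by norm_num) (by rw [hn]; norm_num) hv
    rw [hvp] at hnm
    obtain rfl : m = 1 := by omega
    rw [hm', pow_one]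
  have hK : Nat.card K = 7 := by have := F.card_K; omega
  set C := Nat.card {w // L.φ vD w = w} with hCdef
  have h1 : 1 < C := exists_fixed_layer F L hv Nat.prime_three hvp (by omega)
  have h2 : C ∣ 64 := hW ▸ card_fix_dvd L vD
  have h3 : 64 ≡ C [MOD 3] :=
    hW ▸ modEq_fix L vD Nat.prime_three (by rw [← hvp, ← Subgroup.orderOf_coe])
  have hKone : ∀ k : K, (k : G) * v = v * k → k = 1 := fun k hk => by
    have hc := card_K_cent F hv
    rw [hq0] at hc
    haveI : Subsingleton ↥(K ⊓ Subgroup.centralizer {v}) :=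
      Finite.card_le_one_iff_subsingleton.1 (by omega)
    exact Subtype.ext (congrArg (fun z : ↥(K ⊓ Subgroup.centralizer {v}) => (z : G)) (Subsingleton.elim
      (⟨k, k.2, Subgroup.mem_centralizer_singleton_iff.2 hk⟩ : ↥(K ⊓ Subgroup.centralizer {v})) 1))
  have h4 : 7 * (C - 1) ≤ 63 := by
    let T := {w : {w // L.φ vD w = w} // (w : W) ≠ 1}
    let g : K × T → {w : W // w ≠ 1} := fun p =>
      ⟨L.φ ⟨p.1, F.K_le p.1.2⟩ p.2.1.1, fun h => p.2.2 ((L.φ _).injective (h.trans (map_one _).symm))⟩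
    have hg : Function.Injective g := by
      rintro ⟨k, u⟩ ⟨l, u'⟩ h
      have h' : L.φ ⟨k, F.K_le k.2⟩ u.1.1 = L.φ ⟨l, F.K_le l.2⟩ u'.1.1 := congrArg Subtype.val h
      set m : twoStab G a t := (⟨l, F.K_le l.2⟩ : twoStab G a t)⁻¹ * ⟨k, F.K_le k.2⟩ with hm
      have hmK : (m : G) ∈ K := K.mul_mem (K.inv_mem l.2) k.2
      have hmu : L.φ m u.1.1 = u'.1.1 := by
        rw [hm, map_mul, MulAut.mul_apply, h', ← MulAut.mul_apply, ← map_mul, inv_mul_cancel, map_one,
          MulAut.one_apply]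
      have hm1 : m = 1 := by
        by_contra hne
        have hfix : L.φ (m⁻¹ * (vD * m * vD⁻¹)) u.1.1 = u.1.1 := by
          calc L.φ (m⁻¹ * (vD * m * vD⁻¹)) u.1.1
              = L.φ m⁻¹ (L.φ vD (L.φ m (L.φ vD⁻¹ u.1.1))) := by
                simp only [map_mul, MulAut.mul_apply]
            _ = L.φ m⁻¹ (L.φ vD (L.φ m u.1.1)) := by
                rw [show L.φ vD⁻¹ u.1.1 = u.1.1 from (L.φ vD).injective (by
                  rw [← MulAut.mul_apply, ← map_mul, mul_inv_cancel, map_one, MulAut.one_apply, u.1.2])]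
            _ = u.1.1 := by
                rw [hmu, u'.1.2, ← hmu, ← MulAut.mul_apply, ← map_mul, inv_mul_cancel, map_one,
                  MulAut.one_apply]
        by_cases hone : m⁻¹ * (vD * m * vD⁻¹) = 1
        · refine hne (Subtype.ext ?_)
          have h5 : vD * m * vD⁻¹ = m := (inv_mul_eq_one.1 hone).symm
          have h6 : (m : G) * v = v * m := (congrArg Subtype.val (mul_inv_eq_iff_eq_mul.1 h5)).symm
          exact congrArg (fun k : K => (k : G)) (hKone ⟨m, hmK⟩ h6)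
        · exact u.2 (layer_fpf F L _ (K.mul_mem (K.inv_mem hmK) (F.norm_K v hv.1 _ hmK)) hone hfix)
      have hkl : k = l := Subtype.ext (inv_mul_eq_one.1 (congrArg Subtype.val hm1)).symm
      subst hkl
      exact Prod.ext rfl (Subtype.ext (Subtype.ext ((L.φ _).injective h')))
    have := Nat.card_le_card_of_injective g hg
    rw [Nat.card_prod, hK] at this
    have hT : C - 1 ≤ Nat.card T := by
      have h5 : C = Nat.card T + 1 := by
        rw [← Finite.card_option, hCdef]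
        refine (Nat.card_eq_of_bijective (fun o : Option T => o.elim ⟨1, map_one _⟩ fun u => u.1) ⟨?_, ?_⟩).symm
        · rintro (_ | u) (_ | u') e
          · rfl
          · exact absurd (congrArg Subtype.val e).symm u'.2
          · exact absurd (congrArg Subtype.val e) u.2
          · exact congrArg some (Subtype.ext e)
        · intro u
          by_cases hu : (u : W) = 1
          · exact ⟨none, Subtype.ext hu.symm⟩
          · exact ⟨some ⟨u, hu⟩, rfl⟩
      omega
    have h6 : Nat.card {w : W // w ≠ 1} ≤ 63 := by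
      have : Nat.card {w : W // w ≠ 1} < Nat.card W :=
        Finite.card_subtype_lt (x := 1) (by simp)
      omega
    have := Nat.mul_le_mul_left 7 hT
    omega
  have hC4 : C = 4 := by
    have hle : C ≤ 10 := by omega
    unfold Nat.ModEq at h3
    interval_cases C <;> omega
  rw [centralizer_card F L hv, hq0, ← hCdef, hC4]

end Cfsg.Agent.Lib.BenderSuzuki.NoGalois
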