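import Cfsg.Agent.Lib.BenderSuzuki.Interface
import Cfsg.Agent.Lib.Suzuki2.Anisotropic

/-!
# §7 of Suzuki's theorem: `q = 8`

The centraliser `C` of `v` has order 216 and a normal Sylow 3-subgroup `R`; the conjugates of `v` under
the normaliser of `R` are `v` and multiples of eight further elements of `R`, which contradicts `|G|`.
-/

set_option autoImplicit false
set_option linter.unusedSectionVars false
set_option linter.style.haveILetI false

namespace Cfsg.Agent.Lib.BenderSuzuki.NoGalois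

open MulAction Cfsg.Agent.Lib.RankOne.Basic Cfsg.Agent.Lib.RankOne.Involution

universe u w

variable {G : Type u} {Ω : Type w} [Group G] [MulAction G Ω] [Finite G] {a : Ω} {t : G}
  {Q : Subgroup G}

/-- The data of the case `q = 8`. -/
structure EightData (G : Type u) {Ω : Type w} [Group G] [MulAction G Ω] (a : Ω) (t : G)
    (Q : Subgroup G) (v : G) : Prop where
  setup : Cfsg.IsRankOneSetup G Ω a t Q
  mem : v ∈ twoStab G a t
  order : orderOf v = 3
  cent_D : ∀ d ∈ twoStab G a t, d * v = v * d → d ∈ Subgroup.zpowers v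
  card_centQ : Nat.card ↥(Subgroup.centralizer {v} ⊓ Q) = 8
  card_G : Nat.card G = 513 * 512 * 21
  conj_V : ∀ g : G, g * v * g⁻¹ ∈ Subgroup.zpowers v → g * v * g⁻¹ = v

namespace EightData

variable {v : G} (E : EightData G a t Q v)
include E

theorem commute_zpowers {e g : G} (he : e ∈ Subgroup.zpowers v) (hg : g ∈ Subgroup.centralizer {v}) :
    g * e = e * g := by
  obtain ⟨i, rfl⟩ := Subgroup.mem_zpowers_iff.1 he
  exact (Commute.zpow_right (Subgroup.mem_centralizer_singleton_iff.1 hg) i)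

theorem zpowers_le_cent : Subgroup.zpowers v ≤ Subgroup.centralizer {v} :=
  Subgroup.zpowers_le.2 (Subgroup.mem_centralizer_singleton_iff.2 rfl)

theorem mem_of_conj {g h : G} (hh : h ∈ Subgroup.centralizer {v})
    (hV : h⁻¹ * g * h ∈ Subgroup.zpowers v) : g ∈ Subgroup.zpowers v := by
  have := E.commute_zpowers hV hh
  rw [show h * (h⁻¹ * g * h) = g * h by group, mul_left_inj] at this
  exact this ▸ hV

theorem fix_of_mem {e : G} (he : e ∈ Subgroup.zpowers v) {c : Ω} (hc : c ∈ fixedSet {v} Ω) :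
    e • c = c := by
  have h : Subgroup.zpowers v ≤ stabilizer G c := Subgroup.zpowers_le.2 (hc v rfl)
  exact h he

theorem exists_decomp {g : G} (hg : g ∈ Subgroup.centralizer {v}) (hga : g • a = a) :
    ∃ q ∈ Subgroup.centralizer {v} ⊓ Q, ∃ e ∈ Subgroup.zpowers v, g = q * e := by
  obtain ⟨q, hq, d, hd, rfl⟩ := exists_Q_D E.setup hga
  have hg' : v * (q * d) * v⁻¹ = q * d := by
    rw [← Subgroup.mem_centralizer_singleton_iff.1 hg, mul_inv_cancel_right]
  obtain ⟨h1, h2⟩ := Q_D_unique E.setup (twoStab_norm E.setup E.mem hq) hq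
    ((twoStab G a t).mul_mem ((twoStab G a t).mul_mem E.mem hd) ((twoStab G a t).inv_mem E.mem)) hd
    (by rw [← hg']; group)
  exact ⟨q, ⟨Subgroup.mem_centralizer_singleton_iff.2 (mul_inv_eq_iff_eq_mul.1 h1).symm, hq⟩, d,
    E.cent_D d hd (mul_inv_eq_iff_eq_mul.1 h2).symm, rfl⟩

theorem a_fixed : a ∈ fixedSet {v} Ω := fun g hg => by
  rw [Set.mem_singleton_iff.1 hg]; exact E.mem.1

theorem b_fixed : t • a ∈ fixedSet {v} Ω := fun g hg => by
  rw [Set.mem_singleton_iff.1 hg]; exact E.mem.2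

theorem card_cent_stab : Nat.card ↥(Subgroup.centralizer {v} ⊓ stabilizer G a) = 24 := by
  rw [show (24 : ℕ) = Nat.card ↥(Subgroup.centralizer {v} ⊓ Q) * Nat.card (Subgroup.zpowers v) by
    rw [E.card_centQ, Nat.card_zpowers, E.order], ← Nat.card_prod]
  symm
  refine Nat.card_eq_of_bijective (fun p : ↥(Subgroup.centralizer {v} ⊓ Q) × Subgroup.zpowers v =>
    (⟨p.1.1 * p.2.1, Subgroup.mul_mem _ p.1.2.1 (E.zpowers_le_cent p.2.2), by
      show (p.1.1 * p.2.1) • a = a
      rw [mul_smul, E.fix_of_mem p.2.2 E.a_fixed, Q_fix E.setup p.1.2.2]⟩ :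
      ↥(Subgroup.centralizer {v} ⊓ stabilizer G a))) ⟨fun p p' h => ?_, fun g => ?_⟩
  · have hle : Subgroup.zpowers v ≤ twoStab G a t := Subgroup.zpowers_le.2 E.mem
    obtain ⟨h1, h2⟩ := Q_D_unique E.setup p.1.2.2 p'.1.2.2 (hle p.2.2) (hle p'.2.2) (congrArg Subtype.val h)
    exact Prod.ext (Subtype.ext h1) (Subtype.ext h2)
  · obtain ⟨q, hq, e, he, h⟩ := E.exists_decomp g.2.1 g.2.2
    exact ⟨⟨⟨q, hq⟩, ⟨e, he⟩⟩, Subtype.ext h.symm⟩

theorem h3 : ∃ b c d : Ω, b ≠ c ∧ b ≠ d ∧ c ≠ d ∧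
    ∀ x ∈ ({v} : Set G), x • b = b ∧ x • c = c ∧ x • d = d := by
  have hS := E.setup
  have h8 : 1 < Nat.card ↥(Subgroup.centralizer {v} ⊓ Q) := by rw [E.card_centQ]; norm_num
  haveI := Finite.one_lt_card_iff_nontrivial.1 h8
  obtain ⟨x, hx⟩ := exists_ne (1 : ↥(Subgroup.centralizer {v} ⊓ Q))
  refine ⟨a, t • a, (x : G) • (t • a), (t_smul_ne hS).symm, fun h => t_smul_ne hS
    (smul_left_cancel (x : G) (h.symm.trans (Q_fix hS x.2.2).symm)),
    fun h => hx (Subtype.ext (Q_free hS x.2.2 (t_smul_ne hS) h.symm)), fun g hg => ?_⟩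
  exact ⟨E.a_fixed g hg, E.b_fixed g hg, centralizer_smul_mem x.2.1 E.b_fixed g hg⟩

theorem trans_fix {c : Ω} (hc : c ∈ fixedSet {v} Ω) : ∃ h ∈ Subgroup.centralizer {v}, h • a = c := by
  have hX : ({v} : Set G) ⊆ (twoStab G a t : Set G) := Set.singleton_subset_iff.2 E.mem
  by_cases hca : c = a
  · exact ⟨1, Subgroup.one_mem _, by rw [one_smul, hca]⟩
  · obtain ⟨h, hh, h1, -⟩ := centralizer_two_trans E.setup hX E.h3 E.a_fixed hc hc E.a_fixed
      (fun e => hca e.symm) hca
    exact ⟨h, hh, h1⟩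

theorem card_fix : Nat.card (fixedSet {v} Ω) = 9 := by
  classical
  have hS := E.setup
  have hX : ({v} : Set G) ⊆ (twoStab G a t : Set G) := Set.singleton_subset_iff.2 E.mem
  haveI := finiteOmega hS
  rw [show (9 : ℕ) = Nat.card ↥(Subgroup.centralizer {v} ⊓ Q) + 1 by rw [E.card_centQ],
    ← Finite.card_option]
  symm
  refine Nat.card_eq_of_bijective (fun o => o.elim ⟨a, E.a_fixed⟩ fun x =>
    ⟨(x : G) • (t • a), centralizer_smul_mem x.2.1 E.b_fixed⟩) ⟨?_, ?_⟩
  · rintro (_ | x) (_ | y) e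
    · rfl
    · exact absurd (congrArg Subtype.val e).symm
        (fun h => t_smul_ne hS (smul_left_cancel (y : G) (h.trans (Q_fix hS y.2.2).symm)))
    · exact absurd (congrArg Subtype.val e)
        (fun h => t_smul_ne hS (smul_left_cancel (x : G) (h.trans (Q_fix hS x.2.2).symm)))
    · exact congrArg some (Subtype.ext (Q_smul_inj hS x.2.2 y.2.2 (t_smul_ne hS) (congrArg Subtype.val e)))
  · rintro ⟨c, hc⟩
    by_cases hca : c = a
    · exact ⟨none, Subtype.ext hca.symm⟩
    · obtain ⟨q, hq, hqC, h⟩ := exists_centralizer_trans hS hX hca hc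
      exact ⟨some ⟨q, hqC, hq⟩, Subtype.ext h⟩

theorem card_cent : Nat.card (Subgroup.centralizer {v}) = 216 := by
  set C := Subgroup.centralizer {v} with hC
  have h1 : (stabilizer C a).index = 9 := by
    rw [index_stabilizer]
    rw [show MulAction.orbit C a = fixedSet {v} Ω by
      refine Set.ext fun c => ⟨?_, fun hc => ?_⟩
      · rintro ⟨g, rfl⟩; exact centralizer_smul_mem g.2 E.a_fixed
      · obtain ⟨h, hh, e⟩ := E.trans_fix hc
        exact ⟨⟨h, hh⟩, e⟩, ← Nat.card_coe_set_eq, E.card_fix]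
  have h2 : Nat.card (stabilizer C a) = 24 := by
    rw [← E.card_cent_stab]
    exact Nat.card_congr
      { toFun := fun g => ⟨g.1.1, g.1.2, g.2⟩
        invFun := fun g => ⟨⟨g.1, g.2.1⟩, g.2.2⟩
        left_inv := fun _ => rfl
        right_inv := fun _ => rfl }
  rw [← Subgroup.card_mul_index (stabilizer C a), h1, h2]

/-- The elements of the centraliser outside `⟨v⟩` without fixed point in `Fix v`. -/
def fpfSet (_E : EightData G a t Q v) : Set G :=
  {g | g ∈ Subgroup.centralizer {v} ∧ g ∉ Subgroup.zpowers v ∧ ∀ c ∈ fixedSet {v} Ω, g • c ≠ c}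

theorem unique_fix {g : G} (hg : g ∈ Subgroup.centralizer {v}) (hgV : g ∉ Subgroup.zpowers v)
    {c d : Ω} (hc : c ∈ fixedSet {v} Ω) (hd : d ∈ fixedSet {v} Ω) (hgc : g • c = c) (hgd : g • d = d) :
    c = d := by
  by_contra hcd
  have hX : ({v} : Set G) ⊆ (twoStab G a t : Set G) := Set.singleton_subset_iff.2 E.mem
  obtain ⟨h, hh, h1, h2⟩ := centralizer_two_trans E.setup hX E.h3 E.a_fixed E.b_fixed hc hd
    (t_smul_ne E.setup).symm hcd
  have hC := Subgroup.mul_mem _ (Subgroup.mul_mem _ (Subgroup.inv_mem _ hh) hg) hh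
  have hV : h⁻¹ * g * h ∈ Subgroup.zpowers v := E.cent_D _ (mem_twoStab.2 ⟨by
    rw [mul_smul, mul_smul, h1, hgc, inv_smul_eq_iff, h1], by
    rw [mul_smul, mul_smul, h2, hgd, inv_smul_eq_iff, h2]⟩)
    (Subgroup.mem_centralizer_singleton_iff.1 hC)
  exact hgV (E.mem_of_conj hh hV)

theorem card_fpfSet : Nat.card (fpfSet E) = 24 := by
  classical
  set C := Subgroup.centralizer {v} with hC
  set Fx := fixedSet {v} Ω with hFx
  haveI := finiteOmega E.setup
  letI := Fintype.ofFinite Fx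
  letI := Fintype.ofFinite G
  let P : Fx → Finset G := fun c =>
    Finset.univ.filter fun g => g ∈ C ∧ g ∉ Subgroup.zpowers v ∧ g • (c : Ω) = (c : Ω)
  let Cf : Finset G := Finset.univ.filter fun g => g ∈ C
  let Vf : Finset G := Finset.univ.filter fun g => g ∈ Subgroup.zpowers v
  let Sf : Finset G := Finset.univ.filter fun g => g ∈ fpfSet E
  have hsplit : Cf = Vf ∪ Sf ∪ Finset.univ.biUnion P := by
    ext g
    simp only [Cf, Vf, Sf, P, Finset.mem_filter, Finset.mem_univ, true_and, Finset.mem_union,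
      Finset.mem_biUnion]
    refine ⟨fun hg => ?_, ?_⟩
    · by_cases hV : g ∈ Subgroup.zpowers v
      · exact Or.inl (Or.inl hV)
      by_cases hf : ∃ c ∈ Fx, g • c = c
      · obtain ⟨c, hc, hgc⟩ := hf
        exact Or.inr ⟨⟨c, hc⟩, hg, hV, hgc⟩
      · push Not at hf
        exact Or.inl (Or.inr ⟨hg, hV, hf⟩)
    · rintro ((h | h) | ⟨c, h, -, -⟩)
      · exact E.zpowers_le_cent h
      · exact h.1
      · exact h
  have hd1 : Disjoint Vf Sf := by
    rw [Finset.disjoint_left]
    intro g h1 h2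
    simp only [Vf, Sf, Finset.mem_filter] at h1 h2
    exact h2.2.2.1 h1.2
  have hd2 : Disjoint (Vf ∪ Sf) (Finset.univ.biUnion P) := by
    rw [Finset.disjoint_left]
    intro g h1 h2
    simp only [Vf, Sf, P, Finset.mem_union, Finset.mem_biUnion, Finset.mem_filter, Finset.mem_univ,
      true_and] at h1 h2
    obtain ⟨c, -, hV, hgc⟩ := h2
    rcases h1 with h | h
    · exact hV h
    · exact h.2.2 c.1 c.2 hgc
  have hP : ∀ c, (P c).card = 21 := fun c => by
    obtain ⟨h, hh, hhc⟩ := E.trans_fix c.2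
    have h1 : (Finset.univ.filter fun g => g ∈ C ⊓ stabilizer G a ∧ g ∉ Subgroup.zpowers v).card = 21 := by
      have h2 : Finset.univ.filter (fun g => g ∈ C ⊓ stabilizer G a ∧ g ∉ Subgroup.zpowers v) =
          Finset.univ.filter (fun g => g ∈ C ⊓ stabilizer G a) \ Vf := by
        ext g; simp [Vf]
      rw [h2, Finset.card_sdiff_of_subset (fun g hg => by
        simp only [Vf, Finset.mem_filter, Finset.mem_univ, true_and] at hg ⊢
        exact ⟨E.zpowers_le_cent hg, E.fix_of_mem hg E.a_fixed⟩),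
        ← Fintype.card_subtype, ← Nat.card_eq_fintype_card,
        show Nat.card {g // g ∈ C ⊓ stabilizer G a} = 24 from E.card_cent_stab,
        show Vf.card = 3 by
          rw [← Fintype.card_subtype, ← Nat.card_eq_fintype_card]
          exact (Nat.card_zpowers v).trans E.order]
    rw [← h1]
    refine Finset.card_bij' (fun g _ => h⁻¹ * g * h) (fun g _ => h * g * h⁻¹) ?_ ?_ ?_ ?_
    · intro g hg
      simp only [P, Finset.mem_filter, Finset.mem_univ, true_and] at hg ⊢
      refine ⟨⟨C.mul_mem (C.mul_mem (C.inv_mem hh) hg.1) hh, ?_⟩, fun hV => hg.2.1 (E.mem_of_conj hh hV)⟩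
      show (h⁻¹ * g * h) • a = a
      rw [mul_smul, mul_smul, hhc, hg.2.2, inv_smul_eq_iff, hhc]
    · intro g hg
      simp only [P, Finset.mem_filter, Finset.mem_univ, true_and] at hg ⊢
      refine ⟨C.mul_mem (C.mul_mem hh hg.1.1) (C.inv_mem hh),
        fun hV => hg.2 (E.mem_of_conj (C.inv_mem hh) (g := g) ?_), ?_⟩
      · rw [inv_inv]
        exact hV
      · rw [mul_smul, mul_smul, inv_smul_eq_iff.2 hhc.symm, show g • a = a from hg.1.2, hhc]
    · intro g _; group
    · intro g _; group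
  have hcard : Cf.card = 216 := by
    rw [← E.card_cent, Nat.card_eq_fintype_card, Fintype.card_subtype]
  have hVf : Vf.card = 3 := by
    rw [← Fintype.card_subtype, ← Nat.card_eq_fintype_card]
    exact (Nat.card_zpowers v).trans E.order
  rw [hsplit, Finset.card_union_of_disjoint hd2, Finset.card_union_of_disjoint hd1,
    Finset.card_biUnion (fun c _ d _ hcd => Finset.disjoint_left.2 fun g h1 h2 => hcd (by
      simp only [P, Finset.mem_filter, Finset.mem_univ, true_and] at h1 h2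
      exact Subtype.ext (E.unique_fix h1.1 h1.2.1 c.2 d.2 h1.2.2 h2.2.2))),
    Finset.sum_congr rfl (fun c _ => hP c), Finset.sum_const, Finset.card_univ,
    ← Nat.card_eq_fintype_card, E.card_fix, hVf, smul_eq_mul] at hcard
  rw [Nat.card_eq_fintype_card, Fintype.card_subtype]
  change Sf.card = 24
  omega

/-- The contradiction for `q = 8`. -/
theorem false : False := by
  classical
  haveI : Fact (Nat.Prime 3) := ⟨Nat.prime_three⟩
  set C := Subgroup.centralizer {v} with hC
  set V := Subgroup.zpowers v with hV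
  obtain ⟨R', hR', hVR'⟩ := Sylow.exists_subgroup_card_pow_prime_le 3 (n := 1) (m := 3)
    (G := C) (by rw [E.card_cent]; norm_num) (V.subgroupOf C)
    (by
      rw [Nat.card_congr (Subgroup.subgroupOfEquivOfLe E.zpowers_le_cent).toEquiv, Nat.card_zpowers,
        E.order]; norm_num) (by norm_num)
  set R := R'.map C.subtype with hRdef
  have hR : Nat.card R = 27 := by
    rw [hRdef, Subgroup.card_map_of_injective Subtype.val_injective, hR']; norm_num
  have hRC : R ≤ C := Subgroup.map_subtype_le _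
  have hVR : V ≤ R := fun x hx =>
    ⟨⟨x, E.zpowers_le_cent hx⟩, hVR' (Subgroup.mem_subgroupOf.2 hx), rfl⟩
  -- elements of `R` outside `V` are fixed-point-free
  have hsub : ∀ g ∈ R, g ∉ V → g ∈ fpfSet E := by
    intro g hg hgV
    refine ⟨hRC hg, hgV, fun c hc hgc => hgV ?_⟩
    obtain ⟨h, hh, hha⟩ := E.trans_fix hc
    have hxa : (h⁻¹ * g * h) • a = a := by
      rw [mul_smul, mul_smul, hha, hgc, inv_smul_eq_iff, hha]
    obtain ⟨q, hq, e, he, hqe⟩ := E.exists_decomp
      (C.mul_mem (C.mul_mem (C.inv_mem hh) (hRC hg)) hh) hxa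
    have h27 : (h⁻¹ * g * h) ^ 27 = 1 := by
      rw [show h⁻¹ * g * h = h⁻¹ * g * (h⁻¹)⁻¹ by rw [inv_inv], conj_pow, ← hR,
        pow_card_eq_one_mem hg]
      group
    rw [hqe, Commute.mul_pow (E.commute_zpowers he hq.1 : Commute q e), show e ^ 27 = 1 by
      rw [show (27 : ℕ) = orderOf v * 9 by rw [E.order], pow_mul]
      obtain ⟨i, rfl⟩ := Subgroup.mem_zpowers_iff.1 he
      rw [← zpow_natCast (v ^ i), ← zpow_mul, mul_comm, zpow_mul, zpow_natCast, pow_orderOf_eq_one,
        one_zpow, one_pow], mul_one] at h27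
    have hq8 : q ^ 8 = 1 := by
      rw [← E.card_centQ]; exact pow_card_eq_one_mem hq
    have hq1 : q = 1 := by
      have := pow_gcd_eq_one.2 ⟨h27, hq8⟩
      simpa using this
    rw [hq1, one_mul] at hqe
    exact E.mem_of_conj hh (hqe ▸ he : h⁻¹ * g * h ∈ V)
  have hfpfR : ∀ g ∈ fpfSet E, g ∈ R ∧ g ∉ V := by
    have hsubset : (R : Set G) \ (V : Set G) ⊆ fpfSet E := fun g hg => hsub g hg.1 hg.2
    have heq : (R : Set G) \ (V : Set G) = fpfSet E := by
      refine Set.eq_of_subset_of_ncard_le hsubset ?_ (Set.toFinite _)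
      rw [← Nat.card_coe_set_eq, E.card_fpfSet, Set.ncard_sdiff (SetLike.coe_subset_coe.2 hVR) (Set.toFinite _),
        ← Nat.card_coe_set_eq, ← Nat.card_coe_set_eq,
        show Nat.card ↥(R : Set G) = 27 from hR,
        show Nat.card ↥(V : Set G) = 3 from (Nat.card_zpowers v).trans E.order]
    intro g hg
    rw [← heq] at hg
    exact hg
  -- `C` normalises `R`
  set N := Subgroup.normalizer (R : Set G) with hN
  have hCN : C ≤ N := by
    have key : ∀ c ∈ C, ∀ x ∈ R, c * x * c⁻¹ ∈ R := by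
      intro c hc x hx
      by_cases hxV : x ∈ V
      · rw [E.commute_zpowers hxV hc, mul_inv_cancel_right]; exact hx
      · obtain ⟨hxC, -, hxf⟩ := hsub x hx hxV
        refine (hfpfR _ ⟨C.mul_mem (C.mul_mem hc hxC) (C.inv_mem hc), fun h => hxV ?_,
          fun d hd hfix => ?_⟩).1
        · have := E.commute_zpowers h (C.inv_mem hc)
          rw [show c⁻¹ * (c * x * c⁻¹) = x * c⁻¹ by group, mul_left_inj] at this
          exact this ▸ h
        · rw [mul_smul, mul_smul, smul_eq_iff_eq_inv_smul] at hfix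
          exact hxf _ (centralizer_smul_mem (C.inv_mem hc) hd) hfix
    intro c hc
    refine Subgroup.mem_normalizer_iff.2 fun x => ⟨fun hx => key c hc x hx, fun hx => ?_⟩
    have := key c⁻¹ (C.inv_mem hc) _ hx
    rwa [show c⁻¹ * (c * x * c⁻¹) * c⁻¹⁻¹ = x by group] at this
  -- the orbit of `v`
  set O : Set G := {x | ∃ g ∈ N, g * v * g⁻¹ = x} with hO
  have hOcard : Nat.card O * Nat.card C = Nat.card N := by
    let act : MulAction N G := MulAction.compHom G ((MulAut.conj (G := G)).comp N.subtype)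
    have horb : @MulAction.orbit N G _ v = O := Set.ext fun x =>
      ⟨fun ⟨g, hg⟩ => ⟨g.1, g.2, hg⟩, fun ⟨g, hg, he⟩ => ⟨⟨g, hg⟩, he⟩⟩
    have hst : Nat.card (MulAction.stabilizer N v) = Nat.card C := by
      refine Nat.card_congr
        { toFun := fun g => ⟨g.1.1, Subgroup.mem_centralizer_singleton_iff.2
            (mul_inv_eq_iff_eq_mul.1 (show g.1.1 * v * g.1.1⁻¹ = v from g.2))⟩
          invFun := fun g => ⟨⟨g.1, hCN g.2⟩, show g.1 * v * g.1⁻¹ = v from
            mul_inv_eq_iff_eq_mul.2 (Subgroup.mem_centralizer_singleton_iff.1 g.2)⟩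
          left_inv := fun _ => rfl
          right_inv := fun _ => rfl }
    rw [← Subgroup.card_mul_index (MulAction.stabilizer N v), hst, index_stabilizer, horb,
      Nat.card_coe_set_eq, mul_comm]
  have hOR : ∀ x ∈ O, x = v ∨ (x ∈ R ∧ x ∉ V) := by
    rintro x ⟨g, hg, rfl⟩
    by_cases h : g * v * g⁻¹ ∈ V
    · exact Or.inl (E.conj_V g h)
    · exact Or.inr ⟨(Subgroup.mem_normalizer_iff.1 hg v).1 (hVR (Subgroup.mem_zpowers v)), h⟩
  set T : Set G := O \ {v} with hT
  -- `C_Q(v)` acts freely on `T`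
  have h8 : 8 ∣ Nat.card T := by
    let A := C ⊓ Q
    letI actT : MulAction A T :=
      { smul := fun x y => ⟨x.1 * y.1 * (x.1 : G)⁻¹, by
          obtain ⟨⟨g, hg, he⟩, hne⟩ := y.2
          refine ⟨⟨x.1 * g, N.mul_mem (hCN x.2.1) hg, by rw [← he]; group⟩, fun h => hne ?_⟩
          have h' : x.1 * y.1 * (x.1 : G)⁻¹ = v := h
          show (y : G) = v
          have hxv := Subgroup.mem_centralizer_singleton_iff.1 x.2.1
          calc (y : G) = x.1⁻¹ * (x.1 * y.1 * (x.1 : G)⁻¹) * x.1 := by group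
            _ = v := by rw [h', mul_assoc, ← hxv, inv_mul_cancel_left]⟩
        one_smul := fun y => Subtype.ext (show (1 : G) * y.1 * (1 : G)⁻¹ = y.1 by group)
        mul_smul := fun x x' y => Subtype.ext
          (show (x.1 * x'.1) * y.1 * (x.1 * x'.1 : G)⁻¹ = x.1 * (x'.1 * y.1 * (x'.1 : G)⁻¹) * (x.1 : G)⁻¹ by group) }
    rw [← E.card_centQ]
    refine Suzuki2.Anisotropic.free_dvd (G := A) (X := T) fun x y h => ?_
    have h' : x.1 * y.1 * (x.1 : G)⁻¹ = y.1 := congrArg Subtype.val h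
    obtain ⟨hyR, hyV⟩ := (hOR _ y.2.1).resolve_left y.2.2
    obtain ⟨hyC, -, hyf⟩ := hsub _ hyR hyV
    refine Subtype.ext (Q_free E.setup x.2.2 (hyf a E.a_fixed) ?_)
    rw [← mul_smul, mul_inv_eq_iff_eq_mul.1 h', mul_smul, Q_fix E.setup x.2.2]
  have hTle : Nat.card T ≤ 24 := by
    rw [← E.card_fpfSet]
    exact Nat.card_mono (Set.toFinite _) fun x hx =>
      hsub x ((hOR x hx.1).resolve_left hx.2).1 ((hOR x hx.1).resolve_left hx.2).2
  have hOT : Nat.card O = Nat.card T + 1 := by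
    rw [Nat.card_coe_set_eq, Nat.card_coe_set_eq, hT,
      Set.ncard_sdiff_singleton_add_one (show v ∈ O from ⟨1, N.one_mem, by group⟩) (Set.toFinite _)]
  have hdvdG : Nat.card N ∣ Nat.card G := Subgroup.card_subgroup_dvd_card N
  have h81 : 81 ∣ Nat.card N := by
    have hmod := Sylow.card_normalizer_modEq_card (p := 3) (n := 3) (G := G) (H := R) (by rw [hR]; norm_num)
    unfold Nat.ModEq at hmod
    rw [← hN, E.card_G] at hmod
    norm_num at hmod
    omega
  rw [← hOcard, E.card_cent, hOT] at hdvdG h81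
  rw [E.card_G] at hdvdG
  obtain ⟨i, hi⟩ := h8
  rw [hi] at hdvdG h81 hTle
  have hi3 : i ≤ 3 := by omega
  revert hdvdG h81
  interval_cases i <;> norm_num

end EightData

end Cfsg.Agent.Lib.BenderSuzuki.NoGalois
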