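import Cfsg.Agent.Lib.BenderSuzuki.NoGalois.Hecke
import Cfsg.Agent.Lib.BenderSuzuki.NoGalois.Cubic
import Cfsg.Agent.Lib.BenderSuzuki.NoGalois.Eight
import Cfsg.Agent.S1134

/-!
# Suzuki's theorem on split rank-one groups: §7, no field automorphisms in a simple group

If `V₀ = 1` and `V ≠ 1` in a simple set-up with `Q` a 2-group, the monomial representation of a
character of `D/K` leaves only `|Q| = q³`; there the section of an element of prime order gives
`q = 2 ^ p`, and Burnside transfer (`p ≠ 3`) or a count for `q = 8` gives a contradiction.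
-/

set_option autoImplicit false
set_option linter.unusedSectionVars false
set_option linter.style.haveILetI false

namespace Cfsg.Agent.Lib.BenderSuzuki.NoGalois

open MulAction Cfsg.Agent.Lib.RankOne.Basic Cfsg.Agent.Lib.RankOne.Involution
open Cfsg.Agent.Lib.RankOne.Nilpotent

universe u w

variable {G : Type u} {Ω : Type w} [Group G] [MulAction G Ω] [Finite G] {a : Ω} {t : G}
  {Q : Subgroup G}

theorem exists_qNum_pow (h : Hyp G Ω a t Q) {K : Subgroup G} {s : G} (F : Frame G a t Q K s) :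
    ∃ n, 2 ≤ n ∧ qNum G a = 2 ^ n := by
  classical
  haveI := h.faithful
  haveI : Fact (Nat.Prime 2) := ⟨Nat.prime_two⟩
  have hP : IsPGroup 2 (zGrp F) := fun x => ⟨1, by
    rw [pow_one, pow_two]; exact Subtype.ext (mem_zGrp.1 x.2).2⟩
  obtain ⟨n, hn⟩ := IsPGroup.iff_card.1 hP
  have hcard : Nat.card (zGrp F) = qNum G a := by
    rw [qNum, ← Nat.card_congr (Equiv.subtypeUnivEquiv fun x : zGrp F => Subgroup.mem_top (x : G)),
      card_fixed_zGrp F ⊤, Subgroup.coe_top, Set.inter_univ]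
  refine ⟨n, ?_, hcard.symm.trans hn⟩
  obtain ⟨x, y, hx, hy, hne⟩ := exists_two_involutions h.setup h.twoRank
  have h2 : 1 < (invs G a).ncard := (Set.one_lt_ncard (Set.toFinite _)).2 ⟨x, hx, y, hy, hne⟩
  rw [← Nat.card_coe_set_eq] at h2
  have h3 : 3 ≤ 2 ^ n := by
    rw [← hn, hcard, qNum]; omega
  by_contra hlt
  have := Nat.pow_le_pow_right two_pos (show n ≤ 1 by omega)
  omega

/-- The degree step: only `|Q| = q³` is possible. -/
theorem card_eq_cube (hM : MinHyp G Ω a t Q) (hQ : IsPGroup 2 Q) {K : Subgroup G} {s : G}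
    (F : Frame G a t Q K s) (hV : vGrp a t ≠ ⊥) (hA : PropAbelian.{u, w}) :
    Nat.card Q = qNum G a ^ 3 := by
  haveI : Fact (Nat.Prime 2) := ⟨Nat.prime_two⟩
  haveI := hM.simple
  obtain ⟨n, hn2, hn⟩ := exists_qNum_pow hM.toHyp F
  obtain ⟨W, hWK, hWv⟩ := exists_weight F hV
  have hKcard := F.card_K
  rw [hn] at hKcard
  have hq4 : 4 ≤ 2 ^ n := le_trans (by norm_num) (Nat.pow_le_pow_right two_pos hn2)
  have hnc : ∃ x y : G, x * y ≠ y * x := by
    haveI : Nontrivial K := Finite.one_lt_card_iff_nontrivial.1 (by omega)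
    obtain ⟨k, hk⟩ := exists_ne (1 : K)
    exact ⟨k, s, fun h => F.s_mem.2.1 (F.fpf k.2 (fun h' => hk (Subtype.ext h'))
      (mem_Q_of_invs hM.toHyp F.s_mem) (mul_inv_eq_iff_eq_mul.2 h))⟩
  have key : ∀ e, e ≤ 2 → Nat.card Q = qNum G a ^ e → False := by
    intro e he hcard
    rw [hn, ← pow_mul, mul_comm] at hcard
    have hM1 : 1 ≤ e * n := by
      by_contra h0
      obtain ⟨x, hx⟩ := exists_involution hM.setup
      have h1 : e * n = 0 := by omega
      rw [h1, pow_zero, Subgroup.card_eq_one] at hcard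
      exact hx.2.1 (Subgroup.mem_bot.1 (hcard ▸ mem_Q_of_invs hM.toHyp hx))
    obtain ⟨d, j, hj, hd, hdj, hK⟩ := Hecke.exists_degree hM.setup W hnc hWv K
      (fun k hk => ⟨F.K_le hk, hWK k hk, fun hk1 x hx hfix => F.fpf hk hk1 hx hfix⟩) hM1 hcard
    exact Arith.no_exponent hn2 he hj hd hdj (by rwa [show 2 ^ n - 1 = Nat.card K by omega])
  rcases card_cases hM.toHyp hA hQ with h | h | h
  · exact (key 1 (by omega) (by rw [h, pow_one])).elim
  · exact (key 2 le_rfl h).elim
  · exact h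

/-- Burnside transfer: a cyclic Sylow subgroup in `V` is impossible in a simple group. -/
theorem no_sylow [IsSimpleGroup G] {v : G} {p : ℕ} (hp : p.Prime) (hvp : orderOf v = p)
    (hndvd : ¬ p ^ 2 ∣ Nat.card G) (heven : 2 ∣ Nat.card G) (hp2 : p ≠ 2)
    (hconj : ∀ g : G, g * v * g⁻¹ ∈ Subgroup.zpowers v → g * v * g⁻¹ = v) : False := by
  haveI := Fact.mk hp
  have hcard : Nat.card (Subgroup.zpowers v) = p := by rw [Nat.card_zpowers, hvp]
  let P : Sylow p G := IsPGroup.toSylow (P := Subgroup.zpowers v)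
    (IsPGroup.of_card (n := 1) (by rw [hcard, pow_one])) fun h => hndvd (by
      rw [← Subgroup.card_mul_index (Subgroup.zpowers v), hcard, pow_two]
      exact Nat.mul_dvd_mul_left p h)
  have hP : Subgroup.normalizer ((P : Subgroup G) : Set G) ≤ Subgroup.centralizer ((P : Subgroup G) : Set G) := by
    intro g hg
    show g ∈ Subgroup.centralizer (Subgroup.zpowers v : Set G)
    have h1 := hconj g ((Subgroup.mem_normalizer_iff.1 hg v).1 (Subgroup.mem_zpowers v))
    refine Subgroup.mem_centralizer_iff.2 fun x hx => ?_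
    obtain ⟨i, rfl⟩ := Subgroup.mem_zpowers_iff.1 hx
    exact (Commute.zpow_left (show Commute v g from (mul_inv_eq_iff_eq_mul.1 h1).symm) i)
  have hc := MonoidHom.ker_transferSylow_isComplement' P hP
  rcases (MonoidHom.normal_ker (MonoidHom.transferSylow P hP)).eq_bot_or_eq_top with h | h
  · have h1 := hc.card_mul_card
    rw [h, Subgroup.card_bot, one_mul] at h1
    change Nat.card (Subgroup.zpowers v) = Nat.card G at h1
    rw [hcard] at h1
    exact hp2 ((Nat.prime_dvd_prime_iff_eq Nat.prime_two hp).1 (h1 ▸ heven)).symm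
  · have h1 := hc.card_mul_card
    rw [h, Subgroup.card_top] at h1
    change Nat.card G * Nat.card (Subgroup.zpowers v) = Nat.card G at h1
    rw [hcard] at h1
    exact hp.ne_one ((Nat.mul_eq_left Nat.card_pos.ne').1 h1)

theorem not_dvd_cube {p : ℕ} (hp : p.Prime) (hp3 : p ≠ 3) (hodd : Odd p) :
    ¬ p ∣ (2 ^ p) ^ 3 * (2 ^ p - 1) * ((2 ^ p) ^ 3 + 1) := by
  have h2 : ¬ p ∣ (2 : ℕ) := fun h => by
    rw [Nat.prime_dvd_prime_iff_eq hp Nat.prime_two] at h
    subst h
    exact absurd hodd (by decide)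
  have hq : 2 ^ p ≡ 2 [MOD p] := pow_prime_modEq hp 2
  intro h
  rcases hp.dvd_mul.1 h with h | h
  · rcases hp.dvd_mul.1 h with h | h
    · exact h2 (hp.dvd_of_dvd_pow (hp.dvd_of_dvd_pow h))
    · have h1 : 1 ≡ 2 ^ p [MOD p] := (Nat.modEq_iff_dvd' Nat.one_le_two_pow).2 h
      have h3 := (Nat.modEq_iff_dvd' one_le_two).1 (h1.trans hq)
      exact hp.ne_one (Nat.dvd_one.1 h3)
  · have h1 : (2 ^ p) ^ 3 + 1 ≡ 2 ^ 3 + 1 [MOD p] := (hq.pow 3).add_right 1
    have h3 : p ∣ 3 ^ 2 := (h1.dvd_iff dvd_rfl).1 h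
    exact hp3 ((Nat.prime_dvd_prime_iff_eq hp Nat.prime_three).1 (hp.dvd_of_dvd_pow h3))

/-- §7 No field automorphisms in a simple group. -/
theorem noGalois (hA : PropAbelian.{u, w}) : PropNoGalois.{u, w} := by
  intro G Ω _ _ _ a t Q hM hQ hV0
  classical
  by_contra hV
  have hS := hM.setup
  haveI := hM.faithful
  haveI := hM.simple
  obtain ⟨K, s, F⟩ := exists_frame hM.toHyp hV0
  obtain ⟨n, hn2, hn⟩ := exists_qNum_pow hM.toHyp F
  have hQ3 := card_eq_cube hM hQ F hV hA
  have hq4 : 4 ≤ qNum G a := by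
    rw [hn]; exact le_trans (by norm_num) (Nat.pow_le_pow_right two_pos hn2)
  have hna : ¬ IsMulCommutative Q := fun hc => by
    have h1 := hA G Ω a t Q hM.toHyp hQ hc
    rw [hQ3] at h1
    nlinarith [Nat.mul_le_mul hq4 hq4]
  obtain ⟨W, _, _, ⟨L⟩, hWcard⟩ := exists_layer hM.toHyp hQ hna
  have hW : Nat.card W = qNum G a ^ 2 := by
    rw [hQ3, pow_succ] at hWcard
    exact (Nat.eq_of_mul_eq_mul_right (by omega) hWcard).symm
  -- an element of prime order in `V`
  have hV1 : Nat.card ↥(vGrp a t) ≠ 1 := fun h => hV (Subgroup.card_eq_one.1 h)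
  obtain ⟨p, hp, hpdvd⟩ := Nat.exists_prime_and_dvd hV1
  haveI := Fact.mk hp
  obtain ⟨v, hvp⟩ := exists_prime_orderOf_dvd_card' p hpdvd
  rw [← Subgroup.orderOf_coe] at hvp
  have hq0 := qSub_eq_two hM F L (by omega) hn hW v.2 hp hvp
  obtain ⟨m, -, hm', hnm⟩ := qSub_pow_two F (by omega) hn v.2
  rw [hq0] at hm'
  obtain rfl : m = 1 := Nat.pow_right_injective le_rfl (hm'.symm.trans (pow_one 2).symm)
  rw [one_mul, hvp] at hnm
  -- `V = ⟨v⟩`
  have hVgen : ∀ d ∈ vGrp a t, d ∈ Subgroup.zpowers (v : G) := fun d hd => by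
    refine (galois F (by omega) hn v.2).2 d hd fun x hx hvx => ?_
    have h1 : Nat.card ↥(invs G a ∩ (Subgroup.centralizer {(v : G)} : Set G)) ≤ 1 := by
      unfold qSub at hq0; omega
    haveI := Finite.card_le_one_iff_subsingleton.1 h1
    have hxs : x = s := congrArg Subtype.val (Subsingleton.elim
      (⟨x, hx, Subgroup.mem_centralizer_singleton_iff.2 hvx.symm⟩ :
        ↥(invs G a ∩ (Subgroup.centralizer {(v : G)} : Set G)))
      ⟨s, F.s_mem, Subgroup.mem_centralizer_singleton_iff.2 (F.s_comm v.2).symm⟩)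
    rw [hxs]
    exact F.s_comm hd
  have hVcard : Nat.card ↥(vGrp a t) = p := by
    rw [← hvp, ← Nat.card_zpowers]
    exact congrArg (fun S : Subgroup G => Nat.card S) (le_antisymm hVgen (Subgroup.zpowers_le.2 v.2))
  have hodd : Odd p := by
    rw [← hVcard]
    exact hS.odd_card.of_dvd_nat (Subgroup.card_dvd_of_le inf_le_left)
  have hKcard : Nat.card K = qNum G a - 1 := by have := F.card_K; omega
  have hG : Nat.card G = qNum G a ^ 3 * (qNum G a - 1) * (qNum G a ^ 3 + 1) * p := by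
    rw [card_group hS, F.card_D, hVcard, hKcard, hQ3]; ring
  have hconj : ∀ g : G, g * (v : G) * g⁻¹ ∈ Subgroup.zpowers (v : G) → g * (v : G) * g⁻¹ = v := by
    intro g hg
    have hgV : g * (v : G) * g⁻¹ ∈ vGrp a t := Subgroup.zpowers_le.2 v.2 hg
    obtain ⟨c, hc, he⟩ := Cfsg.Agent.S1134.result hS hM.twoRank {(v : G)}
      (Set.singleton_subset_iff.2 v.2) g (by rintro _ ⟨x, rfl, rfl⟩; exact hgV)
    rw [Set.image_singleton, Set.image_singleton, Set.singleton_eq_singleton_iff] at he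
    rw [← he, F.V_comm hc v.2, mul_inv_cancel_right]
  subst hnm
  rcases eq_or_ne n 3 with rfl | hp3
  · have h8 : qNum G a = 8 := by rw [hn]; norm_num
    exact EightData.false
      { setup := hS
        mem := v.2.1
        order := hvp
        cent_D := fun d hd hdv => by
          obtain ⟨c, hc, i, hi, rfl⟩ := F.decomp hd
          have hiv : i * (v : G) = (v : G) * i := by
            refine mul_left_cancel (a := c) ?_
            rw [← mul_assoc, hdv, ← mul_assoc, ← mul_assoc, F.V_comm hc v.2]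
          have hc2 := card_K_cent F v.2
          rw [hq0] at hc2
          haveI : Subsingleton ↥(K ⊓ Subgroup.centralizer {(v : G)}) :=
            Finite.card_le_one_iff_subsingleton.1 (by omega)
          have hi1 : i = 1 := congrArg (fun z : ↥(K ⊓ Subgroup.centralizer {(v : G)}) => (z : G))
            (Subsingleton.elim (⟨i, hi, Subgroup.mem_centralizer_singleton_iff.2 hiv⟩ :
              ↥(K ⊓ Subgroup.centralizer {(v : G)})) 1)
          rw [hi1, mul_one]
          exact hVgen c hc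
        card_centQ := centralizer_card_eight F L h8 (by rw [hW, h8]; norm_num) v.2 hvp
        card_G := by rw [hG, h8]; norm_num
        conj_V := hconj }
  · refine no_sylow hp hvp ?_ ?_ ?_ hconj
    · rw [hG, hn, pow_two]
      exact fun h => not_dvd_cube hp hp3 hodd ((Nat.mul_dvd_mul_iff_right hp.pos).1 h)
    · rw [hG, hn]
      exact Dvd.dvd.mul_right (Dvd.dvd.mul_right (Dvd.dvd.mul_right
        (dvd_pow (dvd_pow_self 2 (by omega)) (by norm_num)) _) _) _
    · rintro rfl; exact absurd hodd (by decide)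

end Cfsg.Agent.Lib.BenderSuzuki.NoGalois
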