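import Mathlib

/-!
# §7 of Suzuki's theorem: arithmetic of the two degrees
-/

namespace Cfsg.Agent.Lib.BenderSuzuki.NoGalois.Arith

theorem dvd_of_coprime_sub {u w : ℕ} (hco : u.Coprime w) {N : ℤ}
    (h : (u : ℤ) * w ∣ N * ((u : ℤ) - w) ^ 2) : (u : ℤ) * w ∣ N := by
  have h0 : IsCoprime (u : ℤ) (w : ℤ) := Nat.isCoprime_iff_coprime.2 hco
  have h1 : IsCoprime (u : ℤ) ((u : ℤ) - w) := by
    have := (h0.neg_right).add_mul_left_right 1
    rwa [mul_one, neg_add_eq_sub] at this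
  have h2 : IsCoprime (w : ℤ) ((u : ℤ) - w) := by
    have := h0.symm.add_mul_left_right (-1)
    rwa [mul_neg_one, ← sub_eq_add_neg] at this
  exact ((h1.mul_left h2).pow_right).dvd_of_dvd_mul_right h

/-- Two degrees whose product divides `N (m - m')²` are in a ratio that is a power of two. -/
theorem split {m m' M : ℕ} (hM : 1 ≤ M) (hm : 0 < m) (hsum : m + m' = 2 ^ M + 1)
    (hdvd : (m : ℤ) * m' ∣ (2 : ℤ) ^ M * ((m : ℤ) - m') ^ 2) :
    ∃ d j : ℕ, 1 ≤ j ∧ (d = m ∨ d = m') ∧ d * (2 ^ j + 1) = 2 ^ M + 1 := by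
  obtain ⟨g, u, w, hg, hco, hu, hw⟩ := Nat.exists_coprime' (Nat.gcd_pos_of_pos_left m' hm)
  rw [hu, hw] at hdvd
  have hg0 : (g : ℤ) ^ 2 ≠ 0 := pow_ne_zero _ (by exact_mod_cast hg.ne')
  have h1 : (u : ℤ) * w ∣ (2 : ℤ) ^ M * ((u : ℤ) - w) ^ 2 := by
    refine (mul_dvd_mul_iff_left hg0).1 ?_
    push_cast at hdvd
    rwa [show (g : ℤ) ^ 2 * ((u : ℤ) * w) = u * g * (w * g) by ring,
      show (g : ℤ) ^ 2 * ((2 : ℤ) ^ M * ((u : ℤ) - w) ^ 2) = 2 ^ M * ((u : ℤ) * g - w * g) ^ 2 by ring]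
  have h2 : u * w ∣ 2 ^ M := by
    have := dvd_of_coprime_sub hco h1
    exact_mod_cast this
  obtain ⟨i, -, rfl⟩ := (Nat.dvd_prime_pow Nat.prime_two).1 ((Dvd.intro _ rfl).trans h2)
  obtain ⟨j, -, rfl⟩ := (Nat.dvd_prime_pow Nat.prime_two).1 ((Dvd.intro_left _ rfl).trans h2)
  have hodd : ¬ 2 ∣ 2 ^ M + 1 := by
    rw [Nat.dvd_add_right (dvd_pow_self 2 (by omega))]
    norm_num
  rcases Nat.eq_zero_or_pos i with rfl | hi
  · refine ⟨g, j, ?_, Or.inl (by simpa using hu.symm), ?_⟩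
    · by_contra hj
      obtain rfl : j = 0 := by omega
      exact hodd ⟨g, by rw [← hsum, hu, hw]; ring⟩
    · rw [← hsum, hu, hw]; ring
  · obtain rfl : j = 0 := by
      by_contra hj
      exact Nat.not_coprime_of_dvd_of_dvd one_lt_two (dvd_pow_self 2 hi.ne') (dvd_pow_self 2 hj) hco
    exact ⟨g, i, hi, Or.inr (by simpa using hw.symm), by rw [← hsum, hu, hw]; ring⟩

/-- The degree condition excludes `N = q` and `N = q²`. -/
theorem no_exponent {n e d j : ℕ} (hn : 2 ≤ n) (he : e ≤ 2) (hj : 1 ≤ j) (hd : 2 ≤ d)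
    (h : d * (2 ^ j + 1) = 2 ^ (e * n) + 1) (hq : 2 ^ n - 1 ∣ d - 1) : False := by
  set M := e * n with hM
  have hjM : j < M := by
    by_contra hle
    push Not at hle
    have h1 : 2 ^ M ≤ 2 ^ j := Nat.pow_le_pow_right two_pos hle
    have h2 : 2 * (2 ^ j + 1) ≤ d * (2 ^ j + 1) := Nat.mul_le_mul_right _ hd
    have := Nat.two_pow_pos j
    omega
  have h3 : (d - 1) * (2 ^ j + 1) = 2 ^ j * (2 ^ (M - j) - 1) := by
    rw [Nat.sub_mul, Nat.one_mul, h, Nat.mul_sub, ← pow_add, Nat.add_sub_cancel' hjM.le, mul_one]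
    omega
  have h4 : 2 ^ n - 1 ∣ 2 ^ (M - j) - 1 := by
    refine Nat.Coprime.dvd_of_dvd_mul_left (k := 2 ^ n - 1) (m := 2 ^ j) ?_ (h3 ▸ hq.mul_right _)
    refine Nat.Coprime.pow_right _ (Nat.coprime_two_right.2 ?_)
    exact Nat.Even.sub_odd (Nat.one_le_two_pow) (Nat.even_pow.2 ⟨even_two, by omega⟩) odd_one
  have h5 : n ∣ M - j := by
    have h6 := Nat.gcd_eq_left h4
    rw [Nat.pow_sub_one_gcd_pow_sub_one] at h6
    have := Nat.one_le_two_pow (n := n.gcd (M - j))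
    have := Nat.one_le_two_pow (n := n)
    have h7 : Nat.gcd n (M - j) = n := Nat.pow_right_injective le_rfl (by simp only; omega)
    exact h7 ▸ Nat.gcd_dvd_right _ _
  obtain ⟨k, hk⟩ := h5
  have h8 : M ≤ 2 * n := Nat.mul_le_mul_right n he
  rcases k with _ | _ | k
  · omega
  · have hM2 : M = 2 * n := by
      interval_cases e <;> simp_all; omega
    obtain rfl : j = n := by omega
    have h9 : 2 ^ j + 1 ∣ 2 := by
      have ha : 2 ^ j + 1 ∣ 2 ^ M + 1 := Dvd.intro_left d h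
      have hb : 2 ^ j + 1 ∣ 2 ^ M - 1 := ⟨2 ^ j - 1, by
        rw [hM2, mul_comm 2 j, pow_mul, ← Nat.sq_sub_sq, one_pow]⟩
      have hab := Nat.dvd_sub ha hb
      have := Nat.one_le_two_pow (n := M)
      rwa [show 2 ^ M + 1 - (2 ^ M - 1) = 2 by omega] at hab
    have h10 := Nat.le_of_dvd two_pos h9
    have : 2 ^ 2 ≤ 2 ^ j := Nat.pow_le_pow_right two_pos hn
    omega
  · have : n * (k + 1 + 1) ≥ 2 * n := by nlinarith
    omega

end Cfsg.Agent.Lib.BenderSuzuki.NoGalois.Arith
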