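import Cfsg.Agent.Lib.BenderSuzuki.NoGalois.Monomial
import Cfsg.Agent.Lib.BenderSuzuki.NoGalois.Arith

/-!
# §7 of Suzuki's theorem: the two constituents of the monomial representation

Their degrees `d`, `2 ^ j d` satisfy `d (2 ^ j + 1) = |Q| + 1`; the smaller is congruent to one modulo
`|K|` and is not one when the weight is non-trivial and the group is simple.
-/

set_option autoImplicit false
set_option linter.unusedSectionVars false
set_option linter.style.haveILetI false

namespace Cfsg.Agent.Lib.BenderSuzuki.NoGalois.Hecke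

open MulAction Cfsg.Agent.Lib.RankOne.Basic

universe u w

theorem exists_trace_eq {n : Type*} [Fintype n] [DecidableEq n] {E : Matrix n n ℂ} (h : E * E = E) :
    ∃ m : ℕ, E.trace = m := by
  have h' : IsIdempotentElem (Matrix.toLin' E) := by
    show Matrix.toLin' E * Matrix.toLin' E = Matrix.toLin' E
    rw [Module.End.mul_eq_comp, ← Matrix.toLin'_mul, h]
  exact ⟨_, (Matrix.trace_toLin'_eq E).symm.trans (LinearMap.IsIdempotentElem.isProj_range _ h').trace⟩

theorem mul_eq_of_trace_one {n : Type*} [Fintype n] [DecidableEq n] {E A : Matrix n n ℂ}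
    (h : E * E = E) (h1 : E.trace = 1) (hA : A * E = E * A) : A * E = (A * E).trace • E := by
  set f := Matrix.toLin' E with hf
  have h' : IsIdempotentElem f := by
    show f * f = f
    rw [hf, Module.End.mul_eq_comp, ← Matrix.toLin'_mul, h]
  have hrank : Module.finrank ℂ (LinearMap.range f) = 1 := by
    have := (LinearMap.IsIdempotentElem.isProj_range _ h').trace
    rw [hf, Matrix.trace_toLin'_eq, h1] at this
    exact_mod_cast this.symm
  obtain ⟨⟨u, hu⟩, -, hspan⟩ := finrank_eq_one_iff'.1 hrank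
  have hfu : f u = u := (LinearMap.IsIdempotentElem.isProj_range _ h').map_id u hu
  obtain ⟨l, hl⟩ := hspan ⟨f (Matrix.toLin' A u), LinearMap.mem_range_self _ _⟩
  have hAu : Matrix.toLin' A u = l • u := by
    rw [show l • u = f (Matrix.toLin' A u) from congrArg Subtype.val hl]
    conv_lhs => rw [← hfu]
    rw [hf, ← LinearMap.comp_apply, ← Matrix.toLin'_mul, hA, Matrix.toLin'_mul, LinearMap.comp_apply]
  have hAE : A * E = l • E := by
    refine Matrix.toLin'.injective (LinearMap.ext fun x => ?_)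
    obtain ⟨b, hb⟩ := hspan ⟨f x, LinearMap.mem_range_self _ _⟩
    have hb' : b • u = f x := congrArg Subtype.val hb
    rw [Matrix.toLin'_mul, LinearMap.comp_apply, map_smul, LinearMap.smul_apply, ← hf, ← hb',
      map_smul, hAu, smul_comm]
  rw [hAE, Matrix.trace_smul, h1, smul_eq_mul, mul_one]

theorem trivial_of_multiplicative {G : Type u} [Group G] [IsSimpleGroup G]
    (hnc : ∃ x y : G, x * y ≠ y * x) (f : G →* ℂ) : ∀ g, f g = 1 := by
  rcases (MonoidHom.normal_ker f.toHomUnits).eq_bot_or_eq_top with h | h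
  · obtain ⟨x, y, hxy⟩ := hnc
    refine absurd ((MonoidHom.ker_eq_bot_iff f.toHomUnits).1 h ?_) hxy
    rw [map_mul, map_mul, mul_comm]
  · intro g
    have : f.toHomUnits g = 1 := by rw [← MonoidHom.mem_ker, h]; exact Subgroup.mem_top g
    rw [← MonoidHom.coe_toHomUnits f g, this, Units.val_one]

variable {G : Type u} {Ω : Type w} [Group G] [MulAction G Ω] [Finite G] {a : Ω} {t : G}
  {Q : Subgroup G} (hS : Cfsg.IsRankOneSetup G Ω a t Q) (W : Weight G a t Q)
include hS


set_option maxHeartbeats 1600000 in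
/-- The eigenprojection of a root of the quadratic. -/
theorem eigen [Fintype Ω] [Fintype Q] [IsSimpleGroup G] (hnc : ∃ x y : G, x * y ≠ y * x)
    (hv : ∃ v ∈ twoStab G a t, W.θ v ≠ 1) (K : Subgroup G)
    (hK : ∀ k ∈ K, k ∈ twoStab G a t ∧ W.θ k = 1 ∧
      (k ≠ 1 → ∀ x ∈ Q, k * x * k⁻¹ = x → x = 1))
    {z z' : ℂ} (hne : z' - z ≠ 0) (hsum : z + z' = W.coef) (hprod : z * z' = -(Nat.card Q : ℂ)) :
    ∃ m : ℕ, (z' - z) * m = -z * ((Nat.card Q : ℂ) + 1) ∧ 2 ≤ m ∧ Nat.card K ∣ m - 1 := by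
  classical
  letI : Fintype K := Fintype.ofFinite _
  set M := W.mat W.Φ 1 with hM
  set E := (z' - z)⁻¹ • (M - z • (1 : Matrix Ω Ω ℂ)) with hE
  have hMM : (M - z • 1) * (M - z • (1 : Matrix Ω Ω ℂ)) = (z' - z) • (M - z • 1) := by
    rw [sub_mul, mul_sub, mul_sub, hM, W.sq hS, ← hM, Matrix.smul_mul, Matrix.mul_smul, Matrix.smul_mul,
      one_mul, mul_one, Matrix.mul_smul, mul_one, ← hsum, show (Nat.card Q : ℂ) = -(z * z') by rw [hprod, neg_neg]]
    module
  have hEE : E * E = E := by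
    rw [hE, Matrix.smul_mul, Matrix.mul_smul, hMM, smul_smul, smul_smul, mul_assoc, inv_mul_cancel₀ hne,
      mul_one]
  have hN0 : (Nat.card Q : ℂ) + 1 ≠ 0 := Nat.cast_add_one_ne_zero _
  have hNQ : (Nat.card Q : ℂ) ≠ 0 := by exact_mod_cast Nat.card_pos.ne'
  have hz0 : z ≠ 0 := fun h => hNQ (by rw [h, zero_mul, zero_eq_neg] at hprod; exact hprod)
  obtain ⟨m, hm⟩ := exists_trace_eq hEE
  have hm' : (z' - z) * m = -z * ((Nat.card Q : ℂ) + 1) := by
    rw [← hm, hE, Matrix.trace_smul, Matrix.trace_sub, Matrix.trace_smul, Matrix.trace_one, hM,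
      W.trace_Φ hS, smul_eq_mul, smul_eq_mul, ← mul_assoc, mul_inv_cancel₀ hne, one_mul, zero_sub,
      ← Nat.card_eq_fintype_card, card_omega hS]
    push_cast
    ring
  have hm0 : m ≠ 0 := fun h => by
    rw [h, Nat.cast_zero, mul_zero] at hm'
    exact mul_ne_zero (neg_ne_zero.2 hz0) hN0 hm'.symm
  have hcomm : ∀ g, W.mat W.θ g * E = E * W.mat W.θ g := fun g => by
    rw [hE, Matrix.mul_smul, Matrix.smul_mul, mul_sub, sub_mul, hM, W.commute_Φ hS, Matrix.mul_smul,
      Matrix.smul_mul, mul_one, one_mul]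
  refine ⟨m, hm', ?_, ?_⟩
  · by_contra hlt
    obtain rfl : m = 1 := by omega
    rw [Nat.cast_one] at hm
    have key := fun g => mul_eq_of_trace_one hEE hm (hcomm g)
    let f : G →* ℂ :=
      { toFun := fun g => (W.mat W.θ g * E).trace
        map_one' := by rw [W.rep_one, one_mul, hm]
        map_mul' := fun g g' => by
          show (W.mat W.θ (g * g') * E).trace = _
          rw [← W.rep_mul, mul_assoc, key g', Matrix.mul_smul, Matrix.trace_smul, Matrix.trace_smul, hm,
            smul_eq_mul, smul_eq_mul, mul_one, mul_comm] }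
    obtain ⟨v, hv, hθv⟩ := hv
    have h1 : W.mat W.θ v * E = E := by
      rw [key v, show (W.mat W.θ v * E).trace = 1 from trivial_of_multiplicative hnc f v, one_smul]
    have h2 := congrFun (congrFun h1 a) a
    have hva := (mem_twoStab.1 hv).1
    rw [Matrix.mul_apply, Fintype.sum_eq_single a fun ω hω => ?_] at h2
    · have hEa : E a a ≠ 0 := by
        rw [hE, Matrix.smul_apply, Matrix.sub_apply, Matrix.smul_apply, Matrix.one_apply_eq, hM,
          Weight.mat_apply, mul_one, inv_mul_cancel, W.Φ_one, smul_eq_mul, smul_eq_mul, zero_sub,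
          mul_one]
        exact mul_ne_zero (inv_ne_zero hne) (neg_ne_zero.2 hz0)
      rw [Weight.mat_apply, W.sec_base, inv_one, one_mul, mul_one] at h2
      exact hθv (mul_right_cancel₀ hEa (h2.trans (one_mul _).symm))
    · rw [Weight.mat_apply, W.θ_out, zero_mul]
      rw [Ne, W.stab_iff']
      exact fun h => hω (smul_left_cancel v (h.trans hva.symm))
  · set A := (Nat.card K : ℂ)⁻¹ • ∑ k : K, W.mat W.θ k with hA
    have hKc : (Nat.card K : ℂ) ≠ 0 := by exact_mod_cast Nat.card_pos.ne'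
    have hAA : A * A = A := by
      rw [hA, Matrix.smul_mul, Matrix.mul_smul, Finset.sum_mul]
      have : ∀ k : K, W.mat W.θ (k : G) * ∑ l : K, W.mat W.θ (l : G) = ∑ l : K, W.mat W.θ (l : G) :=
        fun k => by
          rw [Finset.mul_sum]
          exact Fintype.sum_bijective (fun l : K => k * l) (Equiv.mulLeft k).bijective _ _
            (fun l => by rw [W.rep_mul]; rfl)
      rw [Finset.sum_congr rfl fun k _ => this k, Finset.sum_const, Finset.card_univ,
        ← Nat.card_eq_fintype_card, ← Nat.cast_smul_eq_nsmul ℂ, smul_smul, smul_smul,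
        mul_assoc, inv_mul_cancel₀ hKc, mul_one]
    have hEsum : Commute E (∑ k : K, W.mat W.θ (k : G)) :=
      Commute.sum_right (Finset.univ : Finset K) (fun k : K => W.mat W.θ (k : G)) E
        fun k _ => (hcomm (k : G)).symm
    have hEA : E * A = A * E := by
      rw [hA]
      exact (hEsum.smul_right ((Nat.card K : ℂ)⁻¹)).eq
    obtain ⟨i, hi⟩ := exists_trace_eq (E := E * A) (by
      rw [mul_assoc, ← mul_assoc A, ← hEA, mul_assoc E A, hAA, ← mul_assoc, hEE])
    have hk1 : ∀ k : K, k ≠ 1 → (E * W.mat W.θ k).trace = 1 := fun k hk => by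
      obtain ⟨hkD, hθk, hfpf⟩ := hK k k.2
      have hfpf' := hfpf (fun h => hk (Subtype.ext h))
      rw [hE, Matrix.smul_mul, sub_mul, hM, W.right_mul (fun g h hh => W.Φ_right hh), one_mul,
        Matrix.smul_mul, one_mul, Matrix.trace_smul, Matrix.trace_sub, Matrix.trace_smul,
        W.trace_Φ_k hS hkD hθk hfpf', W.trace_rep_k hS hkD hθk hfpf', ← hsum, smul_eq_mul,
        smul_eq_mul]
      field_simp
      ring
    have htot : (Nat.card K : ℂ) * i + 1 = m + Nat.card K := by
      rw [← hi, hA, Matrix.mul_smul, Matrix.trace_smul, smul_eq_mul, ← mul_assoc, mul_inv_cancel₀ hKc,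
        one_mul, Finset.mul_sum, Matrix.trace_sum, ← Finset.add_sum_erase _ _ (Finset.mem_univ (1 : K)),
        Finset.sum_congr rfl fun k hk => hk1 k (Finset.ne_of_mem_erase hk), Finset.sum_const,
        Finset.card_erase_of_mem (Finset.mem_univ _), Finset.card_univ, ← Nat.card_eq_fintype_card,
        OneMemClass.coe_one, W.rep_one, mul_one, hm, nsmul_eq_mul, mul_one,
        Nat.cast_sub (Nat.one_le_iff_ne_zero.2 Nat.card_pos.ne')]
      ring
    have htot' : Nat.card K * i + 1 = m + Nat.card K := by exact_mod_cast htot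
    refine (Nat.dvd_add_left (dvd_refl (Nat.card K))).1 ?_
    exact ⟨i, by omega⟩

/-- The degrees of the two constituents. -/
theorem exists_degree [IsSimpleGroup G] (hnc : ∃ x y : G, x * y ≠ y * x)
    (hv : ∃ v ∈ twoStab G a t, W.θ v ≠ 1) (K : Subgroup G)
    (hK : ∀ k ∈ K, k ∈ twoStab G a t ∧ W.θ k = 1 ∧
      (k ≠ 1 → ∀ x ∈ Q, k * x * k⁻¹ = x → x = 1))
    {M : ℕ} (hM : 1 ≤ M) (hN : Nat.card Q = 2 ^ M) :
    ∃ d j : ℕ, 1 ≤ j ∧ 2 ≤ d ∧ d * (2 ^ j + 1) = 2 ^ M + 1 ∧ Nat.card K ∣ d - 1 := by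
  classical
  haveI := finiteOmega hS
  letI := Fintype.ofFinite Ω
  letI := Fintype.ofFinite Q
  set N : ℂ := (Nat.card Q : ℂ) with hNdef
  set c := W.coef with hc
  obtain ⟨δ, hδ⟩ := IsAlgClosed.exists_eq_mul_self (c * c + 4 * N)
  set z := (c + δ) / 2 with hz
  set z' := (c - δ) / 2 with hz'
  have hsum : z + z' = c := by rw [hz, hz']; ring
  have hprod : z * z' = -N := by rw [hz, hz']; linear_combination (1 / 4 : ℂ) * hδ
  have hne : z' - z ≠ 0 := by
    intro h0
    have rfl' : z' = z := sub_eq_zero.1 h0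
    set Mm := W.mat W.Φ 1 with hMm
    have hnil : IsNilpotent (Mm - z • (1 : Matrix Ω Ω ℂ)) := by
      refine ⟨2, ?_⟩
      rw [pow_two, sub_mul, mul_sub, mul_sub, hMm, W.sq hS, ← hMm, Matrix.smul_mul, Matrix.mul_smul,
        Matrix.smul_mul, one_mul, mul_one, Matrix.mul_smul, mul_one, ← hc, ← hNdef, ← hsum, rfl',
        show N = -(z * z) by rw [rfl'] at hprod; rw [hprod, neg_neg]]
      module
    have htr := (Matrix.isNilpotent_trace_of_isNilpotent hnil).eq_zero
    rw [Matrix.trace_sub, Matrix.trace_smul, Matrix.trace_one, hMm, W.trace_Φ hS, zero_sub,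
      neg_eq_zero, smul_eq_mul, mul_eq_zero] at htr
    rcases htr with h | h
    · rw [h, zero_mul, zero_eq_neg, hNdef] at hprod
      exact Nat.card_pos.ne' (by exact_mod_cast hprod)
    · haveI : Nonempty Ω := ⟨a⟩
      exact Fintype.card_ne_zero (by exact_mod_cast h : Fintype.card Ω = 0)
  obtain ⟨m, hm, hm2, hmK⟩ := eigen hS W hnc hv K hK hne hsum hprod
  obtain ⟨m', hm', hm2', hmK'⟩ := eigen hS W hnc hv K hK (z := z') (z' := z)
    (by rw [← neg_sub]; exact neg_ne_zero.2 hne) (by rw [add_comm, hsum]) (by rw [mul_comm, hprod])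
  rw [← hNdef] at hm hm'
  have hmsum : m + m' = 2 ^ M + 1 := by
    have : ((m + m' : ℕ) : ℂ) = N + 1 := mul_left_cancel₀ hne (by
      push_cast; linear_combination hm - hm')
    rw [hNdef, hN] at this
    exact_mod_cast this
  have hkey : c * c * (m * m' : ℂ) = N * ((m : ℂ) - m') ^ 2 := by
    refine mul_left_cancel₀ (pow_ne_zero 2 hne) ?_
    have e1 : (z' - z) * m = -z * (N + 1) := hm
    have e2 : (z' - z) * m' = z' * (N + 1) := by linear_combination -hm'
    calc (z' - z) ^ 2 * (c * c * (m * m' : ℂ)) = c * c * (((z' - z) * m) * ((z' - z) * m')) := by ring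
      _ = N * (((z' - z) * m) - ((z' - z) * m')) ^ 2 := by
          rw [e1, e2, ← hsum]; linear_combination (-(z + z') ^ 2 * (N + 1) ^ 2) * hprod
      _ = _ := by ring
  have hcint : IsIntegral ℤ (c * c) := by
    have : IsIntegral ℤ c := IsIntegral.sum _ fun x _ => W.Φ_int hS _
    exact this.mul this
  have hmm : ((m : ℂ) * m') ≠ 0 :=
    mul_ne_zero (Nat.cast_ne_zero.2 (by omega)) (Nat.cast_ne_zero.2 (by omega))
  set r : ℚ := (2 : ℚ) ^ M * ((m : ℚ) - m') ^ 2 / (m * m') with hr
  have hcr : c * c = algebraMap ℚ ℂ r := by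
    rw [eq_ratCast, hr]
    push_cast
    rw [eq_div_iff hmm, hkey, hNdef, hN]
    push_cast
    ring
  rw [hcr, isIntegral_algebraMap_iff (algebraMap ℚ ℂ).injective, IsIntegrallyClosed.isIntegral_iff] at hcint
  obtain ⟨I, hI⟩ := hcint
  have hdvd : (m : ℤ) * m' ∣ (2 : ℤ) ^ M * ((m : ℤ) - m') ^ 2 := by
    refine ⟨I, ?_⟩
    rw [hr, eq_intCast, eq_div_iff (by exact_mod_cast (Nat.mul_ne_zero (by omega) (by omega) : m * m' ≠ 0))] at hI
    have : ((I * ((m : ℤ) * m') : ℤ) : ℚ) = (((2 : ℤ) ^ M * ((m : ℤ) - m') ^ 2 : ℤ) : ℚ) := by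
      push_cast; exact hI
    rw [← Int.cast_injective this]
    ring
  obtain ⟨d, j, hj, hd, he⟩ := Arith.split hM (by omega) hmsum hdvd
  rcases hd with rfl | rfl
  · exact ⟨_, j, hj, hm2, he, hmK⟩
  · exact ⟨_, j, hj, hm2', he, hmK'⟩

end Cfsg.Agent.Lib.BenderSuzuki.NoGalois.Hecke
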