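import Cfsg.Agent.Lib.BenderSuzuki.Interface

/-!
# §7 of Suzuki's theorem: the monomial matrices of a weight of the point stabiliser

A linear character of `G_a`, extended by zero, gives monomial matrices on `Ω`; the commuting matrix of
the non-trivial double coset satisfies a quadratic equation.
-/

set_option autoImplicit false
set_option linter.unusedSectionVars false

namespace Cfsg.Agent.Lib.BenderSuzuki.NoGalois

open MulAction Cfsg.Agent.Lib.RankOne.Basic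

universe u w

/-- A linear character of `G_a`, extended by zero, trivial on `Q` and invariant under `t` on `D`,
with a system of coset representatives. -/
structure Weight (G : Type u) {Ω : Type w} [Group G] [MulAction G Ω] (a : Ω) (t : G)
    (Q : Subgroup G) where
  /-- the character -/
  θ : G → ℂ
  /-- the coset representatives -/
  sec : Ω → G
  sec_smul : ∀ ω, sec ω • a = ω
  sec_base : sec a = 1
  sec_off : ∀ x ∈ Q, sec (x • (t • a)) = x * t
  θ_out : ∀ g, g • a ≠ a → θ g = 0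
  θ_mul : ∀ g h, g • a = a → θ (g * h) = θ g * θ h
  θ_mul' : ∀ g h, h • a = a → θ (g * h) = θ g * θ h
  θ_Q : ∀ x ∈ Q, θ x = 1
  θ_t : ∀ d ∈ twoStab G a t, θ (t * d * t) = θ d
  θ_int : ∀ g, IsIntegral ℤ (θ g)

namespace Weight

variable {G : Type u} {Ω : Type w} [Group G] [MulAction G Ω] [Finite G] {a : Ω} {t : G}
  {Q : Subgroup G} (W : Weight G a t Q)

theorem θ_one : W.θ 1 = 1 := W.θ_Q 1 Q.one_mem

theorem θ_inv {g : G} (h : g • a = a) : W.θ g * W.θ g⁻¹ = 1 := by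
  rw [← W.θ_mul g g⁻¹ h, mul_inv_cancel, W.θ_one]

theorem stab_iff {g : G} {ω : Ω} : ((W.sec ω)⁻¹ * g) • a = a ↔ g • a = ω := by
  rw [mul_smul, inv_smul_eq_iff, W.sec_smul]

theorem stab_iff' {g : G} {ω ω' : Ω} :
    ((W.sec ω)⁻¹ * g * W.sec ω') • a = a ↔ g • ω' = ω := by
  rw [mul_assoc, W.stab_iff, mul_smul, W.sec_smul]

open Classical in
/-- The weight of the non-trivial double coset. -/
noncomputable def Φ (g : G) : ℂ := if g • a = a then 0 else W.θ ((W.sec (g • a))⁻¹ * g)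

theorem Φ_stab {g : G} (h : g • a = a) : W.Φ g = 0 := if_pos h

theorem Φ_one : W.Φ 1 = 0 := W.Φ_stab (one_smul G a)

theorem Φ_right {g h : G} (hh : h • a = a) : W.Φ (g * h) = W.Φ g * W.θ h := by
  by_cases hg : g • a = a
  · rw [W.Φ_stab hg, W.Φ_stab (by rw [mul_smul, hh, hg]), zero_mul]
  · have hgh : (g * h) • a = g • a := by rw [mul_smul, hh]
    simp only [Φ, hgh, hg, if_false]
    rw [← mul_assoc, W.θ_mul' _ _ hh]

variable (hS : Cfsg.IsRankOneSetup G Ω a t Q)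
include hS

theorem Φ_left {g h : G} (hh : h • a = a) : W.Φ (h * g) = W.θ h * W.Φ g := by
  by_cases hg : g • a = a
  · rw [W.Φ_stab hg, W.Φ_stab (by rw [mul_smul, hg, hh]), mul_zero]
  · obtain ⟨x, hx, hxg⟩ := Q_trans hS (t_smul_ne hS) hg
    obtain ⟨q, hq, d, hd, rfl⟩ := exists_Q_D hS hh
    have he : q * (d * x * d⁻¹) ∈ Q := Q.mul_mem hq (twoStab_norm hS hd hx)
    have hhg : (q * d * g) • a = (q * (d * x * d⁻¹)) • (t • a) := by
      rw [mul_smul (q * d), ← hxg]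
      simp only [mul_smul]
      rw [inv_smul_eq_iff.2 (mem_twoStab.1 hd).2.symm]
    have hne : ¬ (q * d * g) • a = a := fun h' => hg (by
      rw [mul_smul] at h'; exact smul_left_cancel (q * d) (h'.trans hh.symm))
    rw [Φ, Φ, if_neg hne, if_neg hg, hhg]
    rw [← hxg, W.sec_off _ he, W.sec_off _ hx,
      show (q * (d * x * d⁻¹) * t)⁻¹ * (q * d * g) = t⁻¹ * d * t * ((x * t)⁻¹ * g) by group,
      W.θ_mul _ _ ?_, W.θ_mul q d (Q_fix hS hq), W.θ_Q q hq, one_mul, t_inv hS, W.θ_t d hd]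
    have := t_conj_mem hS hd
    rw [t_inv hS]
    exact this.1

theorem Φ_t : W.Φ t = 1 := by
  simp only [Φ, t_smul_ne hS, if_false]
  have := W.sec_off 1 Q.one_mem
  rw [one_smul, one_mul] at this
  rw [this, inv_mul_cancel, W.θ_one]

theorem Φ_Qt {x : G} (hx : x ∈ Q) : W.Φ (x * t) = 1 := by
  rw [W.Φ_left hS (Q_fix hS hx), W.θ_Q x hx, W.Φ_t hS, mul_one]

theorem Φ_tQ {x : G} (hx : x ∈ Q) : W.Φ (t * x) = 1 := by
  rw [W.Φ_right (Q_fix hS hx), W.θ_Q x hx, W.Φ_t hS, one_mul]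

theorem Φ_int (g : G) : IsIntegral ℤ (W.Φ g) := by
  unfold Φ
  split
  · exact isIntegral_zero
  · exact W.θ_int _

omit hS

/-- The matrix on `Ω` of a function on `G`. -/
def mat (Ψ : G → ℂ) (g : G) : Matrix Ω Ω ℂ :=
  Matrix.of fun ω ω' => Ψ ((W.sec ω)⁻¹ * g * W.sec ω')

theorem mat_apply (Ψ : G → ℂ) (g : G) (ω ω' : Ω) :
    W.mat Ψ g ω ω' = Ψ ((W.sec ω)⁻¹ * g * W.sec ω') := rfl

variable [Fintype Ω]

theorem left_mul {Ψ : G → ℂ} (hΨ : ∀ h g : G, h • a = a → Ψ (h * g) = W.θ h * Ψ g) (g h : G) :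
    W.mat W.θ g * W.mat Ψ h = W.mat Ψ (g * h) := by
  ext ω ω''
  rw [Matrix.mul_apply, Fintype.sum_eq_single (g⁻¹ • ω) fun ω' hω' => ?_]
  · have h1 : ((W.sec ω)⁻¹ * g * W.sec (g⁻¹ • ω)) • a = a := W.stab_iff'.2 (smul_inv_smul g ω)
    rw [mat_apply, mat_apply, mat_apply, ← hΨ _ _ h1]
    congr 1
    group
  · rw [mat_apply, W.θ_out, zero_mul]
    rw [Ne, W.stab_iff']
    exact fun h' => hω' (eq_inv_smul_iff.2 h')

theorem right_mul {Ψ : G → ℂ} (hΨ : ∀ g h : G, h • a = a → Ψ (g * h) = Ψ g * W.θ h) (g h : G) :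
    W.mat Ψ g * W.mat W.θ h = W.mat Ψ (g * h) := by
  ext ω ω''
  rw [Matrix.mul_apply, Fintype.sum_eq_single (h • ω'') fun ω' hω' => ?_]
  · have h1 : ((W.sec (h • ω''))⁻¹ * h * W.sec ω'') • a = a := W.stab_iff'.2 rfl
    rw [mat_apply, mat_apply, mat_apply, ← hΨ _ _ h1]
    congr 1
    group
  · rw [mat_apply, mat_apply, W.θ_out ((W.sec ω')⁻¹ * h * W.sec ω''), mul_zero]
    rw [Ne, W.stab_iff']
    exact fun h' => hω' h'.symm

theorem rep_one [DecidableEq Ω] : W.mat W.θ 1 = 1 := by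
  ext ω ω'
  rw [mat_apply, Matrix.one_apply, mul_one]
  split
  · subst ω'; rw [inv_mul_cancel, W.θ_one]
  · rename_i h
    rw [W.θ_out]
    rw [Ne, W.stab_iff, W.sec_smul]
    exact fun h' => h h'.symm

theorem rep_mul (g h : G) : W.mat W.θ g * W.mat W.θ h = W.mat W.θ (g * h) :=
  W.left_mul (fun h g hh => W.θ_mul h g hh) g h

include hS

theorem commute_Φ (g : G) : W.mat W.θ g * W.mat W.Φ 1 = W.mat W.Φ 1 * W.mat W.θ g := by
  rw [W.left_mul (fun h g hh => W.Φ_left hS hh), W.right_mul (fun g h hh => W.Φ_right hh), mul_one,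
    one_mul]

theorem sum_omega {A : Type*} [AddCommMonoid A] [Fintype Q] (f : Ω → A) :
    ∑ ω, f ω = f a + ∑ x : Q, f ((x : G) • (t • a)) := by
  have hbij : Function.Bijective
      (fun o : Option Q => o.elim a (fun x => (x : G) • (t • a))) := by
    refine ⟨fun o o' h => ?_, fun ω => ?_⟩
    · have hne : ∀ x : Q, (x : G) • (t • a) ≠ a := fun x h' => t_smul_ne hS
        (smul_left_cancel (x : G) (h'.trans (Q_fix hS x.2).symm))
      rcases o with _ | x <;> rcases o' with _ | y <;> simp only [Option.elim] at h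
      · rfl
      · exact absurd h.symm (hne y)
      · exact absurd h (hne x)
      · exact congrArg some (Subtype.ext (Q_smul_inj hS x.2 y.2 (t_smul_ne hS) h))
    · by_cases h : ω = a
      · exact ⟨none, h.symm⟩
      · obtain ⟨x, hx, hxω⟩ := Q_trans hS (t_smul_ne hS) h
        exact ⟨some ⟨x, hx⟩, hxω⟩
  rw [← Fintype.sum_bijective _ hbij (fun o => f (o.elim a fun x => (x : G) • (t • a))) f
    (fun _ => rfl), Fintype.sum_option]
  rfl

omit hS

/-- The trace coefficient of the quadratic equation. -/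
noncomputable def coef [Fintype Q] : ℂ := ∑ x : Q, W.Φ (t * x * t)

/-- The weight of the square. -/
noncomputable def sqw (g : G) : ℂ := ∑ ω, W.Φ (W.sec ω) * W.Φ ((W.sec ω)⁻¹ * g)

theorem sqw_right {g h : G} (hh : h • a = a) : W.sqw (g * h) = W.sqw g * W.θ h := by
  simp only [sqw, ← mul_assoc, W.Φ_right hh, Finset.sum_mul]

include hS

theorem shift (g h : G) :
    ∑ ω, W.Φ (g * W.sec ω) * W.Φ ((W.sec ω)⁻¹ * h) = W.sqw (g * h) := by
  refine Fintype.sum_bijective (fun ω => g • ω) (MulAction.bijective g) _ _ fun ω => ?_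
  have hα : ((W.sec ω)⁻¹ * g⁻¹ * W.sec (g • ω)) • a = a := W.stab_iff'.2 (inv_smul_smul g ω)
  set α := (W.sec ω)⁻¹ * g⁻¹ * W.sec (g • ω) with hαdef
  have hsec : W.sec (g • ω) = g * W.sec ω * α := by rw [hαdef]; group
  have hα' : α⁻¹ • a = a := inv_smul_eq_iff.2 hα.symm
  rw [hsec, W.Φ_right hα, show (g * W.sec ω * α)⁻¹ * (g * h) = α⁻¹ * ((W.sec ω)⁻¹ * h) by group,
    W.Φ_left hS hα']
  linear_combination (-(W.Φ (g * W.sec ω) * W.Φ ((W.sec ω)⁻¹ * h))) * W.θ_inv hα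

theorem sqw_left {g h : G} (hh : h • a = a) : W.sqw (h * g) = W.θ h * W.sqw g := by
  rw [← W.shift hS, sqw, Finset.mul_sum]
  exact Finset.sum_congr rfl fun ω _ => by rw [W.Φ_left hS hh]; ring

theorem sqw_eq [Fintype Q] (g : G) :
    W.sqw g = W.coef * W.Φ g + (Nat.card Q : ℂ) * W.θ g := by
  have hone : W.sqw 1 = Nat.card Q := by
    rw [sqw, sum_omega hS, W.sec_base, W.Φ_one, zero_mul, zero_add, Nat.card_eq_fintype_card,
      ← Finset.card_univ, Finset.card_eq_sum_ones, Nat.cast_sum]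
    refine Finset.sum_congr rfl fun x _ => ?_
    rw [W.sec_off _ x.2, W.Φ_Qt hS x.2, mul_one, mul_inv_rev, t_inv hS,
      W.Φ_tQ hS (Q.inv_mem x.2), one_mul, Nat.cast_one]
  have ht : W.sqw t = W.coef := by
    rw [sqw, sum_omega hS, W.sec_base, W.Φ_one, zero_mul, zero_add, coef,
      ← Equiv.sum_comp (Equiv.inv Q) (fun x : Q => W.Φ (t * x * t))]
    refine Finset.sum_congr rfl fun x _ => ?_
    rw [W.sec_off _ x.2, W.Φ_Qt hS x.2, one_mul, mul_inv_rev, t_inv hS]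
    rfl
  by_cases hg : g • a = a
  · rw [← one_mul g, W.sqw_right hg, one_mul, hone, W.Φ_stab hg]
    ring
  · obtain ⟨x, hx, hxg⟩ := Q_trans hS (t_smul_ne hS) hg
    have hα : ((x * t)⁻¹ * g) • a = a := by
      rw [mul_smul, inv_smul_eq_iff, mul_smul, hxg]
    rw [show g = x * t * ((x * t)⁻¹ * g) by group, W.sqw_right hα, W.sqw_left hS (Q_fix hS hx),
      W.Φ_right hα, W.Φ_Qt hS hx, ht, W.θ_Q x hx,
      W.θ_out (x * t * ((x * t)⁻¹ * g)) (by rwa [show x * t * ((x * t)⁻¹ * g) = g by group])]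
    ring

theorem sq [Fintype Q] [DecidableEq Ω] :
    W.mat W.Φ 1 * W.mat W.Φ 1 = W.coef • W.mat W.Φ 1 + (Nat.card Q : ℂ) • (1 : Matrix Ω Ω ℂ) := by
  rw [← W.rep_one]
  ext ω ω''
  simp only [Matrix.mul_apply, Matrix.add_apply, Matrix.smul_apply, mat_apply, mul_one, smul_eq_mul]
  rw [W.shift hS, W.sqw_eq hS]

theorem trace_Φ [Fintype Q] : (W.mat W.Φ 1).trace = 0 := by
  refine Finset.sum_eq_zero fun ω _ => ?_
  rw [Matrix.diag_apply, mat_apply, mul_one, inv_mul_cancel, W.Φ_one]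

variable {k : G} (hk : k ∈ twoStab G a t) (hθk : W.θ k = 1)
  (hfpf : ∀ x ∈ Q, k * x * k⁻¹ = x → x = 1)
include hk hθk hfpf

theorem trace_rep_k [Fintype Q] : (W.mat W.θ k).trace = 2 := by
  have htk : W.θ (t * k * t) = 1 := by rw [W.θ_t k hk, hθk]
  show ∑ ω, W.mat W.θ k ω ω = 2
  simp only [mat_apply]
  rw [sum_omega hS, W.sec_base, inv_one, one_mul, mul_one, hθk,
    Fintype.sum_eq_single (1 : Q) fun x hx => ?_]
  · rw [W.sec_off _ (1 : Q).2, OneMemClass.coe_one, one_mul, t_inv hS, htk]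
    norm_num
  · refine W.θ_out _ fun h => hx (Subtype.ext (hfpf _ x.2 ?_))
    rw [W.stab_iff'] at h
    refine Q_smul_inj hS (twoStab_norm hS hk x.2) x.2 (t_smul_ne hS) ?_
    rw [mul_smul, mul_smul, inv_smul_eq_iff.2 (mem_twoStab.1 hk).2.symm]
    exact h

theorem trace_Φ_k [Fintype Q] : (W.mat W.Φ k).trace = W.coef := by
  have htk : W.θ (t * k * t) = 1 := by rw [W.θ_t k hk, hθk]
  show ∑ ω, W.mat W.Φ k ω ω = W.coef
  simp only [mat_apply]
  rw [sum_omega hS, W.sec_base, inv_one, one_mul, mul_one, W.Φ_stab (mem_twoStab.1 hk).1,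
    zero_add, coef]
  have hmem : ∀ x : Q, (x : G)⁻¹ * (k * x * k⁻¹) ∈ Q := fun x =>
    Q.mul_mem (Q.inv_mem x.2) (twoStab_norm hS hk x.2)
  refine Fintype.sum_bijective (fun x : Q => (⟨(x : G)⁻¹ * (k * x * k⁻¹), hmem x⟩ : Q))
    (Finite.injective_iff_bijective.1 fun x y h => ?_) _ _ fun x => ?_
  · have h' : (x : G)⁻¹ * (k * x * k⁻¹) = (y : G)⁻¹ * (k * y * k⁻¹) := congrArg Subtype.val h
    have := hfpf _ (Q.mul_mem y.2 (Q.inv_mem x.2)) (by
      calc k * ((y : G) * (x : G)⁻¹) * k⁻¹ = (k * y * k⁻¹) * (k * x * k⁻¹)⁻¹ := by group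
        _ = (y * ((y : G)⁻¹ * (k * y * k⁻¹))) * ((x : G) * ((x : G)⁻¹ * (k * x * k⁻¹)))⁻¹ := by group
        _ = _ := by rw [h']; group)
    exact Subtype.ext (mul_inv_eq_one.1 this).symm
  · rw [W.sec_off _ x.2,
      show ((x : G) * t)⁻¹ * k * ((x : G) * t) =
        t⁻¹ * ((x : G)⁻¹ * (k * x * k⁻¹)) * t * (t⁻¹ * k * t) by group,
      t_inv hS, W.Φ_right (t_conj_mem hS hk).1, htk, mul_one]

end Weight

end Cfsg.Agent.Lib.BenderSuzuki.NoGalois
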