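import Cfsg.Agent.Lib.BenderSuzuki.Interface
import Cfsg.Agent.Lib.BenderSuzuki.NoGalois.Monomial
import Cfsg.Agent.S1123
import Cfsg.Agent.S1124
import Cfsg.Agent.S1127
import Cfsg.Agent.S1128
import Cfsg.Agent.S1131
import Cfsg.Agent.S1133

/-!
# §7 of Suzuki's theorem: the two-point stabiliser when `V₀ = 1`

`D = V K` with `V` cyclic acting faithfully on the cyclic normal subgroup `K`, which is regular on
the involutions of `G_a` and fixed-point-free on `Q`.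
-/

set_option autoImplicit false
set_option linter.unusedSectionVars false
set_option linter.style.haveILetI false

namespace Cfsg.Agent.Lib.BenderSuzuki.NoGalois

open MulAction Cfsg.Agent.Lib.RankOne.Basic Cfsg.Agent.Lib.RankOne.Involution
open Cfsg.Agent.Lib.RankOne.Nilpotent

universe u w

/-- The set-up with `V₀ = 1`, the torus `K` and an involution with `C_D(s) = V`. -/
structure Frame (G : Type u) {Ω : Type w} [Group G] [MulAction G Ω] (a : Ω) (t : G) (Q K : Subgroup G)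
    (s : G) : Prop where
  hyp : Hyp G Ω a t Q
  ker_bot : vKer a t = ⊥
  mem_K : ∀ x, x ∈ K ↔ x ∈ kSet a t
  cyclic_K : IsCyclic K
  norm_K : ∀ d ∈ twoStab G a t, ∀ k ∈ K, d * k * d⁻¹ ∈ K
  cyclic_V : IsCyclic ↥(vGrp a t)
  s_mem : s ∈ invs G a
  cent_s : vGrp a t = twoStab G a t ⊓ Subgroup.centralizer {s}

variable {G : Type u} {Ω : Type w} [Group G] [MulAction G Ω] [Finite G] {a : Ω} {t : G}
  {Q : Subgroup G}

theorem exists_frame (h : Hyp G Ω a t Q) (hV0 : vKer a t = ⊥) :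
    ∃ (K : Subgroup G) (s : G), Frame G a t Q K s := by
  haveI := h.faithful
  obtain ⟨C, hC, hcyc, hnorm⟩ := Cfsg.Agent.S1131.result h.setup h.twoRank
  obtain ⟨⟨s, r⟩, ⟨hs, hr, he⟩, -⟩ := Cfsg.Agent.S1123.result h.setup
  obtain ⟨h1, h2⟩ := Cfsg.Agent.S1127.result h.setup
  refine ⟨C, s, h, hV0, fun x => by rw [← SetLike.mem_coe, hC], hcyc, hnorm, ?_, hs, h1 s r hs hr he⟩
  obtain ⟨v, hv, hW⟩ := Cfsg.Agent.S1133.result h.setup h.twoRank
  rw [h2, show (stabilizer G a ⊓ stabilizer G (t • a)) ⊓ Subgroup.centralizer (invs G a) = ⊥ from hV0,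
    bot_sup_eq] at hW
  rw [show vGrp a t = Subgroup.closure {v} from hW.symm, ← Subgroup.zpowers_eq_closure]
  infer_instance

namespace Frame

variable {K : Subgroup G} {s : G} (F : Frame G a t Q K s)
include F

theorem K_le {k : G} (hk : k ∈ K) : k ∈ twoStab G a t := ((F.mem_K k).1 hk).1

theorem K_inv {k : G} (hk : k ∈ K) : t * k * t⁻¹ = k⁻¹ := ((F.mem_K k).1 hk).2

theorem K_comm {k l : G} (hk : k ∈ K) (hl : l ∈ K) : k * l = l * k := by
  haveI := F.cyclic_K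
  exact congrArg Subtype.val ((IsCyclic.isMulCommutative : IsMulCommutative K).is_comm.comm ⟨k, hk⟩ ⟨l, hl⟩)

theorem V_comm {c e : G} (hc : c ∈ vGrp a t) (he : e ∈ vGrp a t) : c * e = e * c := by
  haveI := F.cyclic_V
  exact congrArg Subtype.val
    ((IsCyclic.isMulCommutative : IsMulCommutative ↥(vGrp a t)).is_comm.comm ⟨c, hc⟩ ⟨e, he⟩)

theorem card_K : Nat.card K + 1 = qNum G a := by
  rw [qNum, show invs G a = Cfsg.involutionsIn (stabilizer G a : Set G) from rfl,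
    ← card_invertedBy F.hyp.setup]
  exact congrArg (· + 1) (Nat.card_congr (Equiv.subtypeEquivRight F.mem_K))

theorem inter {x : G} (hx : x ∈ vGrp a t) (hk : x ∈ K) : x = 1 := by
  have h1 := ((centralizer_t_iff F.hyp.setup).1 hx).2
  rw [F.K_inv hk] at h1
  exact eq_one_of_sq F.hyp.setup.odd_card hx.1 (mul_eq_one_iff_eq_inv.2 h1.symm)

theorem decomp {d : G} (hd : d ∈ twoStab G a t) : ∃ c ∈ vGrp a t, ∃ i ∈ K, d = c * i := by
  obtain ⟨c, hc, i, hi, hct, he⟩ := exists_CK F.hyp.setup hd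
  exact ⟨c, (centralizer_t_iff F.hyp.setup).2 ⟨hc, hct⟩, i, (F.mem_K i).2 hi, he⟩

theorem card_D : Nat.card (twoStab G a t) = Nat.card ↥(vGrp a t) * Nat.card K := by
  have hS := F.hyp.setup
  rw [(Cfsg.Agent.S1124.result t (orderOf_eq_prime (by rw [sq]; exact hS.mul_self) hS.ne_one)
    (twoStab G a t) hS.odd_card (fun x hx => t_conj_mem' hS hx)).2.1]
  exact congrArg (_ * ·) (Nat.card_congr (Equiv.subtypeEquivRight F.mem_K)).symm

theorem fpf {k : G} (hk : k ∈ K) (hk1 : k ≠ 1) {x : G} (hx : x ∈ Q) (h : k * x * k⁻¹ = x) : x = 1 := by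
  haveI := F.hyp.faithful
  have h0 := Cfsg.Agent.S1128.result F.hyp.setup F.hyp.twoRank k ((F.mem_K k).1 hk) hk1
  exact Subgroup.mem_bot.1
    (h0 ▸ ⟨hx, Subgroup.mem_centralizer_singleton_iff.2 (mul_inv_eq_iff_eq_mul.1 h).symm⟩)

theorem moves {c : G} (hc : c ∈ vGrp a t) (hc1 : c ≠ 1) : ∃ k ∈ K, c * k * c⁻¹ ≠ k := by
  by_contra hcon
  push Not at hcon
  refine hc1 (Subgroup.mem_bot.1 (F.ker_bot ▸ ?_))
  rw [show vKer a t = _ from ((Cfsg.Agent.S1127.result F.hyp.setup).2).symm]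
  exact ⟨hc, Subgroup.mem_centralizer_iff.2 fun k hk =>
    (mul_inv_eq_iff_eq_mul.1 (hcon k ((F.mem_K k).2 hk))).symm⟩

theorem s_comm {c : G} (hc : c ∈ vGrp a t) : c * s = s * c := by
  rw [F.cent_s] at hc
  exact Subgroup.mem_centralizer_singleton_iff.1 hc.2

theorem mem_V_of_s {d : G} (hd : d ∈ twoStab G a t) (h : d * s = s * d) : d ∈ vGrp a t := by
  rw [F.cent_s]
  exact ⟨hd, Subgroup.mem_centralizer_singleton_iff.2 h⟩

theorem exists_K_invol {x : G} (hx : x ∈ invs G a) :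
    ∃ k ∈ K, k * s * k⁻¹ = x ∧ ∀ l ∈ K, l * s * l⁻¹ = x → l = k := by
  obtain ⟨k, ⟨hk, he⟩, hu⟩ := existsUnique_K F.hyp.setup F.s_mem hx
  exact ⟨k, (F.mem_K k).2 hk, he, fun l hl hle => hu l ⟨(F.mem_K l).1 hl, hle⟩⟩

/-- An element of `D` with a fixed point in `Q#` is conjugate under `K` into `V`. -/
theorem into_V {d : G} (hd : d ∈ twoStab G a t) {x : G} (hx : x ∈ Q) (hx1 : x ≠ 1)
    (h : d * x * d⁻¹ = x) : ∃ k ∈ K, k * d * k⁻¹ ∈ vGrp a t := by
  have hS := F.hyp.setup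
  have hxb : x • (t • a) ≠ a := fun h' => t_smul_ne hS
    (smul_left_cancel x (h'.trans (Q_fix hS hx).symm))
  have hxbb : x • (t • a) ≠ t • a := fun h' => hx1 (Q_free hS hx (t_smul_ne hS) h')
  obtain ⟨e, he, hec⟩ := conj_into_centralizer_t hS (X := {d}) (Set.singleton_subset_iff.2 hd)
    ⟨a, t • a, x • (t • a), (t_smul_ne hS).symm, hxb.symm, hxbb.symm, fun g hg => by
      rw [Set.mem_singleton_iff.1 hg]
      refine ⟨hd.1, hd.2, ?_⟩
      rw [← mul_smul, mul_inv_eq_iff_eq_mul.1 h, mul_smul, show d • t • a = t • a from hd.2]⟩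
  refine ⟨e, (F.mem_K e).2 he, (twoStab G a t).mul_mem ((twoStab G a t).mul_mem he.1 hd)
    ((twoStab G a t).inv_mem he.1), Subgroup.mem_centralizer_singleton_iff.2 (hec d rfl).eq⟩

/-- A conjugate in `V` of an element of the coset `K c` is `c`. -/
theorem conj_eq {c k e : G} (hc : c ∈ vGrp a t) (hk : k ∈ K) (he : e ∈ K)
    (h : e * (k * c) * e⁻¹ ∈ vGrp a t) : e * (k * c) * e⁻¹ = c := by
  refine mul_inv_eq_one.1 (F.inter ((vGrp a t).mul_mem h ((vGrp a t).inv_mem hc)) ?_)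
  rw [show e * (k * c) * e⁻¹ * c⁻¹ = e * k * (c * e⁻¹ * c⁻¹) by group]
  exact K.mul_mem (K.mul_mem he hk) (F.norm_K c hc.1 _ (K.inv_mem he))

end Frame

/-- A non-trivial weight, trivial on `K`, when `V ≠ 1`. -/
theorem exists_weight {K : Subgroup G} {s : G} (F : Frame G a t Q K s) (hV : vGrp a t ≠ ⊥) :
    ∃ W : Weight G a t Q, (∀ k ∈ K, W.θ k = 1) ∧ ∃ v ∈ twoStab G a t, W.θ v ≠ 1 := by
  classical
  have hS := F.hyp.setup
  let H := stabilizer G a
  let N : Subgroup H :=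
    { carrier := {g | ∃ q ∈ Q, ∃ i ∈ K, (g : G) = q * i}
      one_mem' := ⟨1, Q.one_mem, 1, K.one_mem, by simp⟩
      mul_mem' := by
        rintro g g' ⟨q, hq, i, hi, e⟩ ⟨q', hq', i', hi', e'⟩
        refine ⟨q * (i * q' * i⁻¹), Q.mul_mem hq (twoStab_norm hS (F.K_le hi) hq'), i * i',
          K.mul_mem hi hi', ?_⟩
        rw [Subgroup.coe_mul, e, e']; group
      inv_mem' := by
        rintro g ⟨q, hq, i, hi, e⟩
        refine ⟨i⁻¹ * q⁻¹ * i, twoStab_norm' hS (F.K_le hi) (Q.inv_mem hq), i⁻¹, K.inv_mem hi, ?_⟩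
        rw [Subgroup.coe_inv, e]; group }
  have hmemN : ∀ g : H, g ∈ N ↔ ∃ q ∈ Q, ∃ i ∈ K, (g : G) = q * i := fun _ => Iff.rfl
  haveI : N.Normal := by
    refine ⟨fun g hg h => ?_⟩
    obtain ⟨q, hq, i, hi, e⟩ := (hmemN g).1 hg
    obtain ⟨p, hp, d, hd, ed⟩ := exists_Q_D hS (show (h : G) • a = a from h.2)
    have hi' := F.norm_K d hd i hi
    refine (hmemN _).2 ⟨p * (d * q * d⁻¹) * (d * i * d⁻¹ * p⁻¹ * (d * i * d⁻¹)⁻¹), ?_, _, hi', ?_⟩
    · exact Q.mul_mem (Q.mul_mem hp (twoStab_norm hS hd hq))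
        (twoStab_norm hS (F.K_le hi') (Q.inv_mem hp))
    · rw [Subgroup.coe_mul, Subgroup.coe_mul, Subgroup.coe_inv, e, ed]; group
  let inc : ↥(vGrp a t) →* H ⧸ N :=
    (QuotientGroup.mk' N).comp (Subgroup.inclusion (inf_le_left.trans inf_le_left))
  have hsurj : Function.Surjective inc := by
    intro x
    obtain ⟨g, rfl⟩ := QuotientGroup.mk'_surjective N x
    obtain ⟨q, hq, d, hd, e⟩ := exists_Q_D hS (show (g : G) • a = a from g.2)
    obtain ⟨c, hc, i, hi, ec⟩ := F.decomp hd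
    refine ⟨⟨c, hc⟩, QuotientGroup.eq.2 ((hmemN _).2 ⟨c⁻¹ * q * c, twoStab_norm' hS hc.1 hq, i, hi, ?_⟩)⟩
    rw [Subgroup.coe_mul, Subgroup.coe_inv, e, ec]
    show c⁻¹ * (q * (c * i)) = c⁻¹ * q * c * i
    group
  haveI := F.cyclic_V
  haveI : IsCyclic (H ⧸ N) := isCyclic_of_surjective inc hsurj
  letI : CommGroup (H ⧸ N) := IsCyclic.commGroup
  obtain ⟨v, hv⟩ := Subgroup.ne_bot_iff_exists_ne_one.1 hV
  have hne : inc v ≠ 1 := fun h => by
    obtain ⟨q, hq, i, hi, e⟩ := (hmemN _).1 ((QuotientGroup.eq_one_iff _).1 h)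
    have e' : (v : G) = q * i := e
    have := (Q_D_unique hS Q.one_mem hq v.2.1 (F.K_le hi) (by rw [one_mul]; exact e')).2
    exact hv (Subtype.ext (F.inter v.2 (this ▸ hi)))
  obtain ⟨φ, hφ⟩ := CommGroup.exists_apply_ne_one_of_hasEnoughRootsOfUnity (H ⧸ N) ℂ hne
  have hsec : ∀ ω : Ω, ∃ g : G, g • a = ω ∧ (ω = a → g = 1) ∧
      ∀ x ∈ Q, x • (t • a) = ω → g = x * t := by
    intro ω
    by_cases h : ω = a
    · refine ⟨1, by rw [one_smul, h], fun _ => rfl, fun x hx hxω => ?_⟩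
      exact absurd (smul_left_cancel x ((hxω.trans h).trans (Q_fix hS hx).symm)) (t_smul_ne hS)
    · obtain ⟨x, hx, hxω⟩ := Q_trans hS (t_smul_ne hS) h
      exact ⟨x * t, by rw [mul_smul, hxω], fun h' => absurd h' h, fun y hy hyω => by
        rw [Q_smul_inj hS hx hy (t_smul_ne hS) (hxω.trans hyω.symm)]⟩
  choose sec hsec1 hsec2 hsec3 using hsec
  let θ : G → ℂ := fun g => if h : g • a = a then ((φ (QuotientGroup.mk' N ⟨g, h⟩) : ℂˣ) : ℂ) else 0
  have hθ : ∀ (g : G) (h : g • a = a), θ g = ((φ (QuotientGroup.mk' N ⟨g, h⟩) : ℂˣ) : ℂ) :=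
    fun g h => dif_pos h
  have hθout : ∀ g : G, g • a ≠ a → θ g = 0 := fun g h => dif_neg h
  have hmul : ∀ g g' : G, g • a = a → g' • a = a → θ (g * g') = θ g * θ g' := fun g g' h h' => by
    rw [hθ g h, hθ g' h', hθ (g * g') (by rw [mul_smul, h', h]), ← Units.val_mul, ← map_mul, ← map_mul]
    rfl
  have hN1 : ∀ g : G, (∃ q ∈ Q, ∃ i ∈ K, g = q * i) → θ g = 1 := by
    rintro g ⟨q, hq, i, hi, rfl⟩
    have hfix : (q * i) • a = a := by rw [mul_smul, (F.K_le hi).1, Q_fix hS hq]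
    rw [hθ _ hfix, show QuotientGroup.mk' N ⟨q * i, hfix⟩ = 1 from
      (QuotientGroup.eq_one_iff _).2 ((hmemN _).2 ⟨q, hq, i, hi, rfl⟩), map_one, Units.val_one]
  refine ⟨{
    θ := θ
    sec := sec
    sec_smul := hsec1
    sec_base := hsec2 a rfl
    sec_off := fun x hx => hsec3 _ x hx rfl
    θ_out := hθout
    θ_mul := fun g g' h => by
      by_cases h' : g' • a = a
      · exact hmul g g' h h'
      · rw [hθout g' h', mul_zero, hθout]
        rw [mul_smul]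
        exact fun e => h' (smul_left_cancel g (e.trans h.symm))
    θ_mul' := fun g g' h' => by
      by_cases h : g • a = a
      · exact hmul g g' h h'
      · rw [hθout g h, zero_mul, hθout]
        rwa [mul_smul, h']
    θ_Q := fun x hx => hN1 x ⟨x, hx, 1, K.one_mem, (mul_one x).symm⟩
    θ_t := fun d hd => by
      obtain ⟨c, hc, i, hi, rfl⟩ := F.decomp hd
      have hct := ((centralizer_t_iff hS).1 hc).2
      have : t * (c * i) * t = c * i⁻¹ := by
        calc t * (c * i) * t = (t * c * t⁻¹) * (t * i * t⁻¹) * (t * t) := by group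
          _ = c * i⁻¹ := by rw [hct, F.K_inv hi, hS.mul_self, mul_one]
      rw [this, hmul c i⁻¹ hc.1.1 (F.K_le (K.inv_mem hi)).1, hmul c i hc.1.1 (F.K_le hi).1,
        hN1 i ⟨1, Q.one_mem, i, hi, (one_mul i).symm⟩,
        hN1 i⁻¹ ⟨1, Q.one_mem, i⁻¹, K.inv_mem hi, (one_mul _).symm⟩]
    θ_int := fun g => by
      by_cases h : g • a = a
      · rw [hθ g h]
        set u : ℂˣ := φ (QuotientGroup.mk' N ⟨g, h⟩) with hu
        refine IsIntegral.of_pow (n := Nat.card (H ⧸ N)) Nat.card_pos ?_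
        rw [← Units.val_pow_eq_pow_val, hu, ← map_pow, pow_card_eq_one', map_one, Units.val_one]
        exact isIntegral_one
      · rw [hθout g h]; exact isIntegral_zero }, fun k hk => hN1 k ⟨1, Q.one_mem, k, hk, (one_mul k).symm⟩,
    v, v.2.1, fun h => hφ ?_⟩
  refine Units.ext ?_
  rw [Units.val_one]
  exact (hθ (v : G) v.2.1.1).symm.trans h

end Cfsg.Agent.Lib.BenderSuzuki.NoGalois
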